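import Groth.Agent.Pn90.Charts

/-!
# Invertible modules on projective space over a field are twists of the structure sheaf
-/

set_option linter.style.haveILetI false
set_option backward.isDefEq.respectTransparency false
set_option backward.isDefEq.respectTransparency.types false
set_option maxHeartbeats 800000

universe u

open CategoryTheory CategoryTheory.Limits AlgebraicGeometry TopologicalSpace Opposite MvPolynomial

attribute [local instance] MvPolynomial.gradedAlgebra

noncomputable section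

namespace Groth.Agent.Pn90

open Groth.Agent Groth.Agent.AModX Groth.Agent.InvX Groth.Agent.PnCoh

/-- Frames with equal transition functions give isomorphic modules. -/
theorem nonempty_iso_of_frames {X : Scheme.{u}} {M N : X.Modules} {ι : Type u} (U : ι → X.Opens)
    (hcov : ∀ x, ∃ a, x ∈ U a) (e : ∀ a, Γ(M, U a)) (s : ∀ a, Γ(N, U a))
    (he : ∀ a, IsFrame (e a)) (hs : ∀ a, IsFrame (s a))
    (h : ∀ a b, ∃ (V : X.Opens) (ha : V ≤ U a) (hb : V ≤ U b) (_ : U a ⊓ U b ≤ V) (t : Γ(X, V)),
      res M ha (e a) = t • res M hb (e b) ∧ res N ha (s a) = t • res N hb (s b)) :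
    Nonempty (M ≅ N) := by
  have hc : ∀ {M N : X.Modules} (e : ∀ a, Γ(M, U a)) (s : ∀ a, Γ(N, U a)), (∀ a, IsFrame (e a)) →
      (∀ a b, ∃ (V : X.Opens) (ha : V ≤ U a) (hb : V ≤ U b) (_ : U a ⊓ U b ≤ V) (t : Γ(X, V)),
        res M ha (e a) = t • res M hb (e b) ∧ res N ha (s a) = t • res N hb (s b)) →
      ∀ (b a : ι) (V : X.Opens) (hb : V ≤ U b) (ha : V ≤ U a) (g : Γ(X, V)),
        res M ha (e a) = g • res M hb (e b) → res N ha (s a) = g • res N hb (s b) := by
    intro M N e s he h b a V hb ha g hg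
    obtain ⟨V', ha', hb', hV', t, h1, h2⟩ := h a b
    have hVV : V ≤ V' := (le_inf ha hb).trans hV'
    have h1' := congrArg (res M hVV) h1
    have h2' := congrArg (res N hVV) h2
    simp only [res_smul, res_res] at h1' h2'
    have : g = resR hVV t := (he b).coord_unique hb (hg.symm.trans h1')
    rw [this]
    exact h2'
  let φ : M ⟶ N := ofFrames (U := U) (e := e) (n := s) hcov he (hc e s he h)
  let ψ : N ⟶ M := ofFrames (U := U) (e := s) (n := e) hcov hs
    (hc s e hs fun a b => let ⟨V, ha, hb, hV, t, h1, h2⟩ := h a b; ⟨V, ha, hb, hV, t, h2, h1⟩)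
  have h1 : ∀ a, φ.app (U a) (e a) = s a := fun a => ofFrames_app hcov he _ a
  have h2 : ∀ a, ψ.app (U a) (s a) = e a := fun a => ofFrames_app hcov hs _ a
  refine ⟨⟨φ, ψ, hom_ext_of_frames U hcov e he fun a => ?_, hom_ext_of_frames U hcov s hs fun a => ?_⟩⟩
  · show ψ.app (U a) (φ.app (U a) (e a)) = e a
    rw [h1, h2]
  · show φ.app (U a) (ψ.app (U a) (s a)) = s a
    rw [h2, h1]

variable {k : Type u} [Field k] {n : ℕ}

local notation "𝐏" => Proj (homogeneousSubmodule (Fin (n + 1)) k)

/-- The transition exponent between two charts. -/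
def δ (d : ℤ) (i j : Fin (n + 1)) : Expo (Fin (n + 1)) := Finsupp.single i d - Finsupp.single j d

theorem mem_support_g₂ {i j l : Fin (n + 1)} (h : l ∈ (g₂ n i j).support) : l = i ∨ l = j := by
  by_contra hh
  push Not at hh
  simp [g₂, Finsupp.single_apply, Ne.symm hh.1, Ne.symm hh.2] at h

/-- Exponents of a unit on the intersection of two charts. -/
theorem exponent_two {i j : Fin (n + 1)} {v : Expo (Fin (n + 1))}
    (hv : v ∈ supp ((g₂ n i j).support : Set (Fin (n + 1))))
    (hv' : -v ∈ supp ((g₂ n i j).support : Set (Fin (n + 1)))) :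
    (∀ l, l ≠ i → l ≠ j → v l = 0) ∧ (i ≠ j → v i = -v j) := by
  classical
  have h0 : ∀ l, l ≠ i → l ≠ j → v l = 0 := fun l hi hj => by
    rcases lt_trichotomy (v l) 0 with h | h | h
    · exact absurd (mem_support_g₂ (hv.2 l h)) (by simp [hi, hj])
    · exact h
    · exact absurd (mem_support_g₂ (hv'.2 l (by simpa using h))) (by simp [hi, hj])
  refine ⟨h0, fun hij => ?_⟩
  have hs := hv.1
  rw [Finsupp.sum_fintype _ _ (fun _ => rfl), Finset.sum_eq_add i j hij (fun l _ hl => h0 l hl.1 hl.2)
    (fun h => absurd (Finset.mem_univ _) h) (fun h => absurd (Finset.mem_univ _) h)] at hs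
  omega

/-- The frame `X_i ^ d` of `O(d)`. -/
theorem exists_frame_O (d : ℤ) (i : Fin (n + 1)) :
    ∃ s : Γ(Twist.twist (homogeneousSubmodule (Fin (n + 1)) k) d, W k n i), IsFrame s ∧
      secTw d (Finsupp.single i 1) (g₁_ne i) s = AddMonoidAlgebra.single (Finsupp.single i d) (1 : k) := by
  have hi : someIdx (g₁_ne i) = i := by
    simpa [Finsupp.support_single_ne_zero] using someIdx_mem (g₁_ne i)
  let hU := nonVan_mOpen (R := k) (someIdx_mem (g₁_ne i))
  refine ⟨twPow (mem_homogeneous_X (someIdx (g₁_ne i))) d hU, fun V hV => ?_, ?_⟩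
  · exact trivMap_bijective (mem_homogeneous_X _) d (fun x => hU ⟨x.1, hV x.2⟩)
  · have h1 : triv (mem_homogeneous_X (someIdx (g₁_ne i))) d hU
        (1 : Γ(𝐏, W k n i)) = twPow (mem_homogeneous_X _) d hU :=
      LinearMap.toSpanSingleton_apply_one (R := Twist.O (op (W k n i))) _ _
    rw [← h1, secTw_triv, map_one, mul_one, hi]

theorem secTw_smul (d : ℤ) (g : Fin (n + 1) →₀ ℕ) (hg : g ≠ 0)
    (t : Γ(𝐏, mOpen k g)) (x : Γ(Twist.twist (homogeneousSubmodule (Fin (n + 1)) k) d, mOpen k g)) :
    secTw d g hg (t • x : Γ(Twist.twist (homogeneousSubmodule (Fin (n + 1)) k) d, mOpen k g)) = secL g hg t * secTw d g hg x := by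
  obtain ⟨c, hc⟩ := exists_triv_eq d g hg x
  subst hc
  have h := (triv (mem_homogeneous_X (someIdx hg)) d (nonVan_mOpen (R := k) (someIdx_mem hg))).map_smul t c
  rw [secTw_triv]
  refine (congrArg (secTw d g hg) h.symm).trans ?_
  rw [secTw_triv]
  show _ * secL g hg (t * c) = _
  rw [map_mul, mul_left_comm]

/-- Sections of `O(d)` compare by transition monomials. -/
theorem frame_coord {d : ℤ} {i j : Fin (n + 1)} {si : Γ(Twist.twist (homogeneousSubmodule (Fin (n + 1)) k) d, W k n i)} {sj : Γ(Twist.twist (homogeneousSubmodule (Fin (n + 1)) k) d, W k n j)}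
    (hi : secTw d (Finsupp.single i 1) (g₁_ne i) si = AddMonoidAlgebra.single (Finsupp.single i d) (1 : k))
    (hj : secTw d (Finsupp.single j 1) (g₁_ne j) sj = AddMonoidAlgebra.single (Finsupp.single j d) (1 : k))
    (hle₁ : mOpen k (g₂ n i j) ≤ W k n i) (hle₂ : mOpen k (g₂ n i j) ≤ W k n j)
    {t : Γ(𝐏, mOpen k (g₂ n i j))}
    (ht : secL (g₂ n i j) (g₂_ne i j) t = AddMonoidAlgebra.single (δ d i j) (1 : k)) :
    res (Twist.twist (homogeneousSubmodule (Fin (n + 1)) k) d) hle₁ si = t • res (Twist.twist (homogeneousSubmodule (Fin (n + 1)) k) d) hle₂ sj := by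
  apply secTw_injective d (g₂ n i j) (g₂_ne i j)
  refine Eq.trans (secTw_res d (Finsupp.single j 1) rfl (g₁_ne i) _ (homOfLE hle₁) si) ?_
  refine Eq.trans ?_ (secTw_smul d (g₂ n i j) (g₂_ne i j) t _).symm
  refine Eq.trans ?_ (congrArg (secL (g₂ n i j) (g₂_ne i j) t * ·)
    (secTw_res d (Finsupp.single i 1) (add_comm _ _) (g₁_ne j) _ (homOfLE hle₂) sj).symm)
  rw [hi, hj, ht, AddMonoidAlgebra.single_mul_single, mul_one, δ, sub_add_cancel]

/-- An invertible module on `Proj k[X₀,…,Xₙ]` is a twist of the structure sheaf. -/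
theorem exists_iso_twist {L : (𝐏).Modules} (hL : PicF.IsInvertible L) :
    ∃ d : ℤ, Nonempty (L ≅ Twist.twist (homogeneousSubmodule (Fin (n + 1)) k) d) := by
  classical
  choose e₀ he₀ using exists_frame_W (k := k) (n := n) hL
  have hV : ∀ i j, mOpen k (g₂ n i j) = W k n i ⊓ W k n j := fun i j => mOpen_add _ _
  have hl : ∀ i j, mOpen k (g₂ n i j) ≤ W k n i := fun i j => (hV i j).trans_le inf_le_left
  have hr : ∀ i j, mOpen k (g₂ n i j) ≤ W k n j := fun i j => (hV i j).trans_le inf_le_right
  choose t ht using fun i j => (he₀ j).exists_coord (hr i j) (res L (hl i j) (e₀ i))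
  let τ : Fin (n + 1) → Fin (n + 1) → Laur (Fin (n + 1)) k := fun i j => secL (g₂ n i j) (g₂_ne i j) (t i j)
  have hτ : ∀ i j l, τ i l = τ i j * τ j l := by
    intro i j l
    let g := g₂ n i l + Finsupp.single j 1
    have hg : g ≠ 0 := fun h => g₂_ne i l (add_eq_zero.1 h).1
    have hil : mOpen k g ≤ mOpen k (g₂ n i l) := (mOpen_add _ _).trans_le inf_le_left
    have hgj : mOpen k g ≤ W k n j := (mOpen_add _ _).trans_le inf_le_right
    have hij : mOpen k g ≤ mOpen k (g₂ n i j) := by rw [hV]; exact le_inf (hil.trans (hl i l)) hgj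
    have hjl : mOpen k g ≤ mOpen k (g₂ n j l) := by rw [hV]; exact le_inf hgj (hil.trans (hr i l))
    have h : resR hil (t i l) = resR hij (t i j) * resR hjl (t j l) := by
      refine (he₀ l).coord_unique (hil.trans (hr i l)) ?_
      have h1 := congrArg (res L hil) (ht i l)
      have h2 := congrArg (res L hij) (ht i j)
      have h3 := congrArg (res L hjl) (ht j l)
      simp only [res_smul, res_res] at h1 h2 h3
      rw [← h1, mul_smul, ← h3, ← h2]
    have h' := congrArg (secL g hg) h
    rw [map_mul] at h'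
    refine Eq.trans (secL_res (Finsupp.single j 1) rfl (g₂_ne i l) hg (homOfLE hil) _).symm (h'.trans ?_)
    exact congrArg₂ (· * ·)
      (secL_res (Finsupp.single l 1) (by simp only [g, g₂]; abel) (g₂_ne i j) hg (homOfLE hij) _)
      (secL_res (Finsupp.single i 1) (by simp only [g, g₂]; abel) (g₂_ne j l) hg (homOfLE hjl) _)
  have hτ1 : ∀ i, τ i i = 1 := fun i => by
    have : t i i = 1 := (he₀ i).coord_unique (hr i i) (by rw [one_smul]; exact (ht i i).symm)
    show secL _ _ (t i i) = 1
    rw [this, map_one]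
  have hmon : ∀ i j, ∃ (v : Expo (Fin (n + 1))) (c : k), c ≠ 0 ∧ τ i j = AddMonoidAlgebra.single v c ∧
      v ∈ supp ((g₂ n i j).support : Set (Fin (n + 1))) ∧
      -v ∈ supp ((g₂ n i j).support : Set (Fin (n + 1))) := by
    intro i j
    obtain ⟨v, c, hc, hv, c', hv'⟩ :=
      exists_eq_single_of_mul_eq_one ((hτ i j i).symm.trans (hτ1 i))
    have hc' : c' ≠ 0 := by
      rintro rfl
      have := (hτ i j i).symm.trans (hτ1 i)
      rw [hv', AddMonoidAlgebra.single_zero, mul_zero] at this
      exact zero_ne_one this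
    refine ⟨v, c, hc.ne_zero, hv, mem_of_single_mem hc.ne_zero (hv ▸ secL_mem _ _ _), ?_⟩
    have hm := secL_mem (g₂ n j i) (g₂_ne j i) (t j i)
    rw [show secL (g₂ n j i) (g₂_ne j i) (t j i) = τ j i from rfl, hv',
      show g₂ n j i = g₂ n i j from add_comm _ _] at hm
    exact mem_of_single_mem hc' hm
  choose v c hc hvc hv hv' using hmon
  have hadd : ∀ i j, v i j = v i 0 - v j 0 ∧ c i j * c j 0 = c i 0 := by
    intro i j
    have h := hτ i j 0
    rw [hvc, hvc, hvc, AddMonoidAlgebra.single_mul_single] at h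
    have h' := (Finsupp.single_eq_single_iff _ _ _ _).1 (congrArg AddMonoidAlgebra.coeff h)
    rcases h' with ⟨h1, h2⟩ | ⟨h1, -⟩
    · exact ⟨by rw [h1, add_sub_cancel_right], h2.symm⟩
    · exact absurd h1 (hc i 0)
  obtain ⟨d, hd⟩ : ∃ d : ℤ, ∀ i, v i 0 = δ d i 0 := by
    by_cases hn : ∃ i : Fin (n + 1), i ≠ 0
    · obtain ⟨i₁, hi₁⟩ := hn
      have heq : ∀ i, i ≠ 0 → v i 0 0 = v i₁ 0 0 := by
        intro i hi
        by_cases h : i = i₁
        · rw [h]
        have h0 := (exponent_two (hv i i₁) (hv' i i₁)).1 0 hi.symm hi₁.symm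
        rw [(hadd i i₁).1, Finsupp.sub_apply] at h0
        omega
      refine ⟨-v i₁ 0 0, fun i => ?_⟩
      by_cases hi : i = 0
      · subst hi
        have := (hadd 0 0).1
        rw [sub_self] at this
        rw [this, δ, sub_self]
      · ext l
        obtain ⟨h0, h2⟩ := exponent_two (hv i 0) (hv' i 0)
        rw [δ, Finsupp.sub_apply]
        by_cases hli : l = i
        · subst hli
          rw [Finsupp.single_eq_same, Finsupp.single_eq_of_ne hi, sub_zero, h2 hi, heq l hi]
        · by_cases hl0 : l = 0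
          · subst hl0
            rw [Finsupp.single_eq_of_ne hli, Finsupp.single_eq_same, zero_sub, neg_neg, heq i hi]
          · rw [h0 l hli hl0, Finsupp.single_eq_of_ne hli, Finsupp.single_eq_of_ne hl0, sub_zero]
    · push Not at hn
      refine ⟨0, fun i => ?_⟩
      have := (hadd 0 0).1
      rw [sub_self] at this
      rw [hn i, this, δ, sub_self]
  have hconst : ∀ (i : Fin (n + 1)) (a : k), ∃ u : Γ(𝐏, W k n i),
      secL (Finsupp.single i 1) (g₁_ne i) u = AddMonoidAlgebra.single 0 a := fun i a =>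
    exists_secL_eq _ (g₁_ne i) (AddMonoidAlgebra.mem_supported.2 fun e he => by
      have : e = 0 := by simpa using Finsupp.support_single_subset (Finset.mem_coe.1 he)
      subst this
      exact ⟨Finsupp.sum_zero_index, fun l hl => absurd hl (lt_irrefl 0)⟩)
  choose u hu using fun i => hconst i (c i 0)⁻¹
  have huu : ∀ i, IsUnit (u i) := fun i => by
    obtain ⟨w, hw⟩ := hconst i (c i 0)
    refine IsUnit.of_mul_eq_one w (secL_injective _ (g₁_ne i) ?_)
    rw [map_mul, hu, hw, AddMonoidAlgebra.single_mul_single, add_zero, inv_mul_cancel₀ (hc i 0), map_one]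
    rfl
  choose s hs hsec using fun i => exists_frame_O (k := k) (n := n) d i
  refine ⟨d, nonempty_iso_of_frames (ι := ULift.{u} (Fin (n + 1))) (fun a => W k n a.down)
    (fun x => ?_) (fun a => u a.down • e₀ a.down) (fun a => s a.down)
    (fun a => (he₀ a.down).isUnit_smul (huu a.down)) (fun a => hs a.down) fun a b => ?_⟩
  · have hx : x ∈ (⊤ : (𝐏).Opens) := trivial
    rw [← iSup_mOpen_single (ι := Fin (n + 1)) (R := k), Opens.mem_iSup] at hx
    exact hx.elim fun i hi => ⟨⟨i⟩, hi⟩
  · obtain ⟨i⟩ := a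
    obtain ⟨j⟩ := b
    obtain ⟨T, hT⟩ := exists_secL_eq (g₂ n i j) (g₂_ne i j) (p := AddMonoidAlgebra.single (δ d i j) (1 : k))
      (AddMonoidAlgebra.mem_supported.2 fun e he => by
        have : e = δ d i j := by simpa using Finsupp.support_single_subset (Finset.mem_coe.1 he)
        rw [this, ← show v i j = δ d i j by rw [(hadd i j).1, hd, hd, δ, δ, δ]; abel]
        exact hv i j)
    refine ⟨mOpen k (g₂ n i j), hl i j, hr i j, (hV i j).ge, T, ?_, frame_coord (hsec i) (hsec j) _ _ hT⟩
    show res L _ (u i • e₀ i) = T • res L _ (u j • e₀ j)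
    rw [res_smul, res_smul, ← mul_smul]
    refine (congrArg (resR (hl i j) (u i) • ·) (ht i j)).trans ?_
    rw [← mul_smul]
    congr 1
    apply secL_injective (g₂ n i j) (g₂_ne i j)
    rw [map_mul, map_mul, hT]
    refine (congrArg₂ (· * ·) (secL_res (Finsupp.single j 1) rfl (g₁_ne i) _ (homOfLE (hl i j)) (u i))
      (hvc i j)).trans ?_
    refine Eq.trans ?_ (congrArg (AddMonoidAlgebra.single (δ d i j) (1 : k) * ·)
      (secL_res (Finsupp.single i 1) (add_comm _ _) (g₁_ne j) _ (homOfLE (hr i j)) (u j)).symm)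
    rw [hu, hu, AddMonoidAlgebra.single_mul_single, AddMonoidAlgebra.single_mul_single, zero_add, add_zero,
      one_mul]
    congr 1
    · rw [(hadd i j).1, hd, hd, δ, δ, δ]; abel
    · have := (hadd i j).2
      have h1 := hc i 0
      have h2 := hc j 0
      field_simp
      linear_combination this

/-- An invertible module on projective space over a field is a twist of the structure sheaf. -/
theorem exists_iso_O {L : (P k n).Modules} (hL : PicF.IsInvertible L) : ∃ d : ℤ, Nonempty (L ≅ O k n d) :=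
  exists_iso_twist (k := k) (n := n) hL

end Groth.Agent.Pn90
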