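import Groth.Agent.Pn90.Basic
import Groth.Agent.H23.PicMul
import Groth.Agent.InvUfdLib.Trivial
import Groth.Agent.PicClLib.Basic
import Groth.Agent.PnCoh.TwistQCoh
import Mathlib.Algebra.MonoidAlgebra.NoZeroDivisors

/-!
# The Picard group of projective space over a field
-/

set_option linter.style.haveILetI false
set_option backward.isDefEq.respectTransparency false
set_option backward.isDefEq.respectTransparency.types false
set_option maxHeartbeats 400000

universe u

open CategoryTheory CategoryTheory.Limits AlgebraicGeometry TopologicalSpace Opposite MvPolynomial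

attribute [local instance] MvPolynomial.gradedAlgebra

noncomputable section

namespace Groth.Agent.Pn90

open Groth.Agent Groth.Agent.AModX Groth.Agent.InvX Groth.Agent.PnCoh

/-- A trivialization on an open gives a frame. -/
theorem exists_frame_of_iso {X : Scheme.{u}} {L : X.Modules} (U : X.Opens)
    (φ : L.restrict U.ι ≅ Coh.structureModule U.toScheme) : ∃ e : Γ(L, U), IsFrame e := by
  let e' : Γ(L.restrict U.ι, ⊤) := φ.inv.app ⊤ (1 : Γ(U.toScheme, ⊤))
  refine ⟨res L (le_of_eq U.ι_image_top.symm) (show Γ(L, U.ι ''ᵁ ⊤) from e'), fun V hV => ?_⟩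
  obtain ⟨V', rfl⟩ : ∃ V', U.ι ''ᵁ V' = V := ⟨U.ι ⁻¹ᵁ V, by
    rw [Scheme.Hom.image_preimage_eq_opensRange_inf, Scheme.Opens.opensRange_ι]
    exact inf_eq_right.mpr hV⟩
  have hb : Function.Bijective (φ.inv.app V') :=
    (ConcreteCategory.isIso_iff_bijective _).1 (Scheme.Modules.Hom.isIso_iff_isIso_app.1 inferInstance V')
  have key : ∀ r : Γ(X, U.ι ''ᵁ V'), (show Γ(L.restrict U.ι, V') from
      r • res L (hV : U.ι ''ᵁ V' ≤ U) (res L (le_of_eq U.ι_image_top.symm)
        (show Γ(L, U.ι ''ᵁ ⊤) from e'))) = φ.inv.app V' ((U.ι.appIso V').hom r) := by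
    intro r
    have h1 : φ.inv.app V' (1 : Γ(U.toScheme, V')) = res (L.restrict U.ι) le_top e' := by
      rw [← app_res]
      exact congrArg (φ.inv.app V') (map_one (resR (le_top : V' ≤ ⊤))).symm
    conv_rhs => rw [show (U.ι.appIso V').hom r = (U.ι.appIso V').hom r • (1 : Γ(U.toScheme, V')) from
      (mul_one _).symm]
    erw [Scheme.Modules.Hom.app_smul, h1]
    rw [res_res]
    show r • res L (U.ι.image_mono (le_top : V' ≤ ⊤)) (show Γ(L, U.ι ''ᵁ ⊤) from e') = (U.ι.appIso V').inv.hom ((U.ι.appIso V').hom r) •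
      res L (U.ι.image_mono (le_top : V' ≤ ⊤)) (show Γ(L, U.ι ''ᵁ ⊤) from e')
    rw [Iso.hom_inv_id_apply]
  have he2 : (fun r : Γ(X, U.ι ''ᵁ V') => (show Γ(L.restrict U.ι, V') from
      r • res L (hV : U.ι ''ᵁ V' ≤ U) (res L (le_of_eq U.ι_image_top.symm)
        (show Γ(L, U.ι ''ᵁ ⊤) from e')))) = (φ.inv.app V') ∘ (U.ι.appIso V').hom := funext key
  have hiso : Function.Bijective (U.ι.appIso V').hom :=
    (ConcreteCategory.isIso_iff_bijective _).1 inferInstance
  exact (congrArg Function.Bijective he2).mpr (hb.comp hiso)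

theorem isInvertible_restrict' {X Y : Scheme.{u}} (j : Y ⟶ X) [IsOpenImmersion j] {L : X.Modules}
    (hL : PicF.IsInvertible L) : PicF.IsInvertible (L.restrict j) :=
  H23.PicMul.isInvertible_of_iso ((Scheme.Modules.restrictFunctorIsoPullback j).app L).symm
    (PicClLib.isInvertible_pullback j hL)

/-- Invertible modules are trivial on affine opens with factorial coordinate ring. -/
theorem exists_frame_of_ufd {X : Scheme.{u}} {L : X.Modules} (hL : PicF.IsInvertible L) {W : X.Opens}
    (hW : IsAffineOpen W) [IsDomain Γ(X, W)] [UniqueFactorizationMonoid Γ(X, W)] :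
    ∃ e : Γ(L, W), IsFrame e := by
  let S := Spec Γ(X, W)
  let L' : S.Modules := L.restrict hW.fromSpec
  obtain ⟨φ⟩ := InvUfdLib.nonempty_iso (⊤ : S.Opens) (L'.restrict (⊤ : S.Opens).ι)
    (isInvertible_restrict' _ (isInvertible_restrict' _ hL))
  let j : W.toScheme ⟶ (⊤ : S.Opens).toScheme := hW.isoSpec.hom ≫ S.topIso.inv
  refine exists_frame_of_iso W ?_
  exact (Scheme.Modules.restrictFunctorCongr (show W.ι = (j ≫ (⊤ : S.Opens).ι) ≫ hW.fromSpec by
      rw [← Scheme.topIso_hom, Category.assoc, Category.assoc, Iso.inv_hom_id_assoc,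
        IsAffineOpen.isoSpec_hom_fromSpec])).app L ≪≫
    (Scheme.Modules.restrictFunctorComp (j ≫ (⊤ : S.Opens).ι) hW.fromSpec).app L ≪≫
    (Scheme.Modules.restrictFunctorComp j (⊤ : S.Opens).ι).app L' ≪≫
    (Scheme.Modules.restrictFunctor j).mapIso φ ≪≫ Scheme.Modules.restrictUnitIso j

section Laurent

variable {ι : Type*} {R : Type u} [CommRing R] [IsDomain R]

/-- Units among Laurent polynomials are monomials. -/
theorem exists_eq_single_of_mul_eq_one {p q : Laur ι R} (h : p * q = 1) :
    ∃ (v : Expo ι) (c : R), IsUnit c ∧ p = AddMonoidAlgebra.single v c ∧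
      ∃ c' : R, q = AddMonoidAlgebra.single (-v) c' := by
  classical
  have hp : p.coeff.support.Nonempty := by
    rw [Finsupp.support_nonempty_iff]
    intro h0
    rw [AddMonoidAlgebra.coeff_eq_zero] at h0
    rw [h0, zero_mul] at h
    exact zero_ne_one h
  have hq : q.coeff.support.Nonempty := by
    rw [Finsupp.support_nonempty_iff]
    intro h0
    rw [AddMonoidAlgebra.coeff_eq_zero] at h0
    rw [h0, mul_zero] at h
    exact zero_ne_one h
  have hne : ∀ a ∈ p.coeff.support, ∀ b ∈ q.coeff.support,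
      UniqueAdd p.coeff.support q.coeff.support a b → a + b = 0 := by
    intro a ha b hb hu
    have hc := AddMonoidAlgebra.coeff_mul_add_of_uniqueAdd hu
    rw [h] at hc
    by_contra h0
    rw [AddMonoidAlgebra.one_def, AddMonoidAlgebra.coeff_single, Finsupp.single_apply, if_neg (Ne.symm h0)] at hc
    exact mul_ne_zero (Finsupp.mem_support_iff.1 ha) (Finsupp.mem_support_iff.1 hb) hc.symm
  have hcard : p.coeff.support.card * q.coeff.support.card ≤ 1 := by
    by_contra hlt
    obtain ⟨⟨a, b⟩, hab, ⟨a', b'⟩, hab', hne', hu, hu'⟩ :=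
      TwoUniqueSums.uniqueAdd_of_one_lt_card (A := p.coeff.support) (B := q.coeff.support) (by omega)
    rw [Finset.mem_product] at hab hab'
    have e := hu hab'.1 hab'.2 ((hne _ hab'.1 _ hab'.2 hu').trans (hne _ hab.1 _ hab.2 hu).symm)
    exact hne' (Prod.ext e.1 e.2).symm
  have h1 := hp.card_pos
  have h2 := hq.card_pos
  obtain ⟨a, c, hc, hpa⟩ := Finsupp.card_support_eq_one'.1 (show p.coeff.support.card = 1 by nlinarith)
  obtain ⟨b, c', hc', hqb⟩ := Finsupp.card_support_eq_one'.1 (show q.coeff.support.card = 1 by nlinarith)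
  have hp' : p = AddMonoidAlgebra.single a c :=
    AddMonoidAlgebra.coeff_injective (by rw [hpa, AddMonoidAlgebra.coeff_single])
  have hq' : q = AddMonoidAlgebra.single b c' :=
    AddMonoidAlgebra.coeff_injective (by rw [hqb, AddMonoidAlgebra.coeff_single])
  rw [hp', hq', AddMonoidAlgebra.single_mul_single] at h
  have hab : a + b = 0 := by
    by_contra h0
    have h' := congrArg (fun z : Laur ι R => z.coeff (a + b)) h
    simp only [AddMonoidAlgebra.one_def, AddMonoidAlgebra.coeff_single, Finsupp.single_eq_same,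
      Finsupp.single_apply, if_neg (Ne.symm h0)] at h'
    exact mul_ne_zero hc hc' h'
  have hcc : c * c' = 1 := by
    have h' := congrArg (fun z : Laur ι R => z.coeff 0) h
    simpa [hab, AddMonoidAlgebra.one_def] using h'
  exact ⟨a, c, IsUnit.of_mul_eq_one c' hcc, hp', c', by rw [hq', neg_eq_of_add_eq_zero_right hab]⟩

omit [IsDomain R] in
theorem mem_of_single_mem {v : Expo ι} {c : R} (hc : c ≠ 0) {s : Set (Expo ι)}
    (h : AddMonoidAlgebra.single v c ∈ AddMonoidAlgebra.supported R R s) : v ∈ s := by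
  rw [AddMonoidAlgebra.mem_supported] at h
  exact h (by simp [hc])

end Laurent

variable (k : Type u) [Field k] (n : ℕ)

/-- The standard charts. -/
abbrev W (i : Fin (n + 1)) : (Proj (homogeneousSubmodule (Fin (n + 1)) k)).Opens :=
  mOpen k (Finsupp.single i 1)

/-- The exponent of the intersection of two charts. -/
abbrev g₂ (i j : Fin (n + 1)) : Fin (n + 1) →₀ ℕ := Finsupp.single i 1 + Finsupp.single j 1

variable {k n}

theorem g₁_ne (i : Fin (n + 1)) : Finsupp.single i 1 ≠ (0 : Fin (n + 1) →₀ ℕ) :=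
  Finsupp.single_ne_zero.2 one_ne_zero

theorem g₂_ne (i j : Fin (n + 1)) : g₂ n i j ≠ 0 := fun h =>
  g₁_ne i (add_eq_zero.1 h).1

theorem exists_frame_W {L : (Proj (homogeneousSubmodule (Fin (n + 1)) k)).Modules} (hL : PicF.IsInvertible L) (i : Fin (n + 1)) :
    ∃ e : Γ(L, W k n i), IsFrame e := by
  have hd := degree_pos (g₁_ne i)
  let ε : MvPolynomial (H23.PnChart.Idx.{u} n i) k ≃+* Γ(Proj (homogeneousSubmodule (Fin (n + 1)) k), W k n i) :=
    (RingEquiv.ofBijective (H23.PnChart.fromChart n k i)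
      ⟨H23.PnChart.fromChart_injective n k i, H23.PnChart.fromChart_surjective n k i⟩).trans
      (Proj.basicOpenIsoAway (homogeneousSubmodule (Fin (n + 1)) k) (monomial (Finsupp.single i 1) (1 : k))
        (monomial_mem_homogeneous _) hd).commRingCatIsoToRingEquiv
  haveI : IsDomain Γ(Proj (homogeneousSubmodule (Fin (n + 1)) k), W k n i) := ε.symm.toMulEquiv.isDomain _
  haveI : UniqueFactorizationMonoid Γ(Proj (homogeneousSubmodule (Fin (n + 1)) k), W k n i) :=
    ε.toMulEquiv.uniqueFactorizationMonoid inferInstance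
  exact exists_frame_of_ufd hL (isAffineOpen_mOpen (g₁_ne i))

end Groth.Agent.Pn90
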