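import Groth.Agent.Pn90.Basic
import Groth.Agent.S1647
import Groth.Agent.QCoh.Support

/-!
# Horrocks' splitting criterion on projective space
-/

set_option linter.style.haveILetI false
set_option backward.isDefEq.respectTransparency false
set_option backward.isDefEq.respectTransparency.types false
set_option maxHeartbeats 400000

universe u

open CategoryTheory CategoryTheory.Limits AlgebraicGeometry TopologicalSpace Opposite

noncomputable section

namespace Groth.Agent.Pn90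

open Groth.Agent

section General

variable {k : Type u} [Field k] {X : Scheme.{u}} [X.Over (Spec (CommRingCat.of k))]

theorem HHlin_zero {A B : X.Modules} (q : ℕ) (x : Coh.HH X A q) : Canon.HHlin k (0 : A ⟶ B) q x = 0 := by
  have hz := PnDual.HHlin_sum (R := k) (fun _ : Fin 0 => (0 : A ⟶ B)) Finset.univ x
  rwa [Finset.univ_eq_empty, Finset.sum_empty, Finset.sum_empty] at hz

theorem HHlin_retract {A B : X.Modules} {i : A ⟶ B} {r : B ⟶ A} (h : i ≫ r = 𝟙 A) (q : ℕ)
    (x : Coh.HH X A q) : Canon.HHlin k r q (Canon.HHlin k i q x) = x := by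
  rw [PnDual.HHlin_comp, h, PnDual.HHlin_id]

theorem finrank_summand_lt {A B C : X.Modules} {i₁ : A ⟶ B} {r₁ : B ⟶ A} {i : C ⟶ B} {r : B ⟶ C}
    (h₁ : i₁ ≫ r₁ = 𝟙 A) (h : i ≫ r = 𝟙 C) (h₀ : i₁ ≫ r = 0) (q : ℕ)
    [Module.Finite k (Coh.HH X B q)] (hA : Nontrivial (Coh.HH X A q)) :
    Module.finrank k (Coh.HH X C q) < Module.finrank k (Coh.HH X B q) := by
  let ρ := Canon.HHlin k r q
  have hρ : Function.Surjective ρ := fun x => ⟨_, HHlin_retract h q x⟩
  obtain ⟨y, hy⟩ := exists_ne (0 : Coh.HH X A q)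
  have hmem : Canon.HHlin k i₁ q y ∈ LinearMap.ker ρ := by
    rw [LinearMap.mem_ker]
    show Canon.HHlin k r q (Canon.HHlin k i₁ q y) = 0
    rw [PnDual.HHlin_comp, h₀, HHlin_zero]
  have hker : LinearMap.ker ρ ≠ ⊥ := fun hbot => by
    rw [hbot, Submodule.mem_bot] at hmem
    exact hy (by rw [← HHlin_retract (k := k) h₁ q y, hmem, map_zero])
  have h2 := LinearMap.finrank_range_add_finrank_ker ρ
  rw [LinearMap.range_eq_top.2 hρ, finrank_top] at h2
  have h3 : 1 ≤ Module.finrank k (LinearMap.ker ρ) := Submodule.one_le_finrank_iff.2 hker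
  omega

end General

section Cat

variable {C : Type*} [Category C] [Abelian C]

/-- `A ⊞ ∐ B ≅ ∐ (cons A B)`. -/
def consIso {α : Type*} (F : α → C) (a : α) {r : ℕ} (b : Fin r → α) :
    F a ⊞ (∐ fun j => F (b j)) ≅ ∐ fun j => F ((Fin.cons a b : Fin (r + 1) → α) j) where
  hom := biprod.desc (Sigma.ι (fun j => F ((Fin.cons a b : Fin (r + 1) → α) j)) 0)
    (Sigma.desc fun j : Fin r => Sigma.ι (fun j => F ((Fin.cons a b : Fin (r + 1) → α) j)) j.succ)
  inv := Sigma.desc (Fin.cases (biprod.inl : F a ⟶ F a ⊞ (∐ fun j => F (b j)))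
    fun j : Fin r => Sigma.ι (fun j => F (b j)) j ≫ biprod.inr)
  hom_inv_id := by
    refine biprod.hom_ext' _ _ ?_ (Sigma.hom_ext _ _ fun j => ?_)
    · simp
    · simp
  inv_hom_id := by
    refine Sigma.hom_ext _ _ fun j => ?_
    refine Fin.cases ?_ (fun j => ?_) j <;> simp

/-- A split monomorphism splits off its cokernel. -/
def isoBiprodCokernel {A B : C} (s : A ⟶ B) (r : B ⟶ A) (h : s ≫ r = 𝟙 A) : B ≅ A ⊞ cokernel s :=
  haveI : Epi (ShortComplex.mk s (cokernel.π s) (cokernel.condition s)).g :=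
    inferInstanceAs (Epi (cokernel.π s))
  (ShortComplex.Splitting.ofExactOfRetraction (ShortComplex.mk s (cokernel.π s) (cokernel.condition s))
    (ShortComplex.exact_of_g_is_cokernel _ (cokernelIsCokernel s)) r h inferInstance).isoBinaryBiproduct

end Cat

variable {k : Type u} [Field k] {n : ℕ}

theorem isMRegular_iff (hn : 1 ≤ n) {E : (P k n).Modules} (hE : NoMid k n E) (m : ℤ) :
    Curv2.IsMRegular k n E m ↔ Subsingleton (Coh.HH (P k n) (tw k n E (m - n)) n) := by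
  refine ⟨fun h => h n hn le_rfl, fun h i hi hin => ?_⟩
  rcases hin.eq_or_lt with rfl | hlt
  · exact h
  · exact hE i _ hi hlt

theorem exists_regular (hn : 1 ≤ n) {E : (P k n).Modules} (hc : Coh.IsCoh E) (hE : NoMid k n E) :
    ∃ N : ℤ, Curv2.IsMRegular k n E N := by
  obtain ⟨d₀, hd⟩ := Pic13Lib.serre hc n hn
  exact ⟨d₀ + n, (isMRegular_iff hn hE _).2 (hd _ (by omega))⟩

theorem isMRegular_mono {E : (P k n).Modules} (hc : Coh.IsCoh E) {m N : ℤ} (h : Curv2.IsMRegular k n E m)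
    (hmN : m ≤ N) : Curv2.IsMRegular k n E N := by
  have := ProjRegular.isMRegular_add hc h (N - m).toNat
  rwa [Int.toNat_of_nonneg (by omega), add_sub_cancel] at this

/-- A nonzero map `F(m) → O` from a nonzero class in top cohomology. -/
theorem exists_map_structure {E : (P k n).Modules} (hc : Coh.IsCoh E) {d m : ℤ} (hd : d + ((n : ℤ) + 1) = m)
    (htop : ¬ Subsingleton (Coh.HH (P k n) (tw k n E d) n)) :
    ∃ ψ : tw k n E m ⟶ Coh.structureModule (P k n), ψ ≠ 0 := by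
  haveI := not_subsingleton_iff_nontrivial.1 htop
  obtain ⟨t⟩ := PnDual.exists_trace' (m := n) (R := k) (b := -((n : ℤ) + 1)) rfl
  obtain ⟨l, hl⟩ := exists_ne (0 : Module.Dual k (Coh.HH (P k n) (tw k n E d) n))
  obtain ⟨φ, hφ⟩ := (PnDual.bijective_dualityMap_good rfl t
    (PnCoh.Finite.good_of_isCoh PnDual.coordsR_mem (isCoh_tw hc d))).2 l
  have hφ0 : φ ≠ 0 := by
    intro h0
    refine hl ?_
    rw [← hφ, h0]
    refine LinearMap.ext fun x => ?_
    exact (congrArg t.toLinearMap (HHlin_zero n x)).trans (map_zero _)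
  obtain ⟨e₁⟩ := tw_tw' E hd
  obtain ⟨e₂⟩ := O_add' (k := k) (n := n) (show -((n : ℤ) + 1) + ((n : ℤ) + 1) = 0 by ring)
  obtain ⟨e₃⟩ := O_zero (k := k) (n := n)
  refine ⟨e₁.inv ≫ twMap φ ((n : ℤ) + 1) ≫ (e₂ ≪≫ e₃).hom, fun h => hφ0 ?_⟩
  refine twMap_injective ((n : ℤ) + 1) (Eq.trans ?_ (twMap_zero _ _ _).symm)
  exact (cancel_mono (e₂ ≪≫ e₃).hom).1 ((cancel_epi e₁.inv).1 (h.trans comp_zero.symm) |>.trans zero_comp.symm)

/-- The free summand split off at the regularity. -/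
theorem exists_summand {E : (P k n).Modules} (hc : Coh.IsCoh E) {m : ℤ} (hreg : Curv2.IsMRegular k n E m)
    (htop : ¬ Subsingleton (Coh.HH (P k n) (tw k n E (m - 1 - n)) n)) :
    ∃ E' : (P k n).Modules, Coh.IsCoh E' ∧ Nonempty (E ≅ O k n (-m) ⊞ E') := by
  obtain ⟨ψ, hψ⟩ := exists_map_structure hc (show m - 1 - n + ((n : ℤ) + 1) = m by ring) htop
  obtain ⟨ι, p, hp⟩ := S1647.result k n E hc m hreg
  obtain ⟨j, hj⟩ : ∃ j : ι, (Sigma.ι (fun _ => Coh.structureModule (P k n)) j ≫ p) ≫ ψ ≠ 0 := by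
    by_contra hcon
    push Not at hcon
    refine hψ ((cancel_epi p).1 (Sigma.hom_ext _ _ fun j => ?_))
    rw [← Category.assoc, hcon j, comp_zero, comp_zero]
  haveI := isIso_end_structure hj
  generalize hs : Sigma.ι (fun _ => Coh.structureModule (P k n)) j ≫ p = s at hj this
  have hsr : s ≫ (ψ ≫ inv (s ≫ ψ)) = 𝟙 _ := by rw [← Category.assoc, IsIso.hom_inv_id]
  have hcC : Coh.IsCoh (cokernel s) :=
    QCoh.isCoh_cokernel (CurveDeg.isCoh_of_isInvertible InvX.isInvertible_structureModule).1 (isCoh_tw hc m) s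
  obtain ⟨e₄⟩ := tw_tw_neg E m
  obtain ⟨e₅⟩ := O_add' (k := k) (n := n) (show 0 + -m = -m by ring)
  obtain ⟨e₃⟩ := O_zero (k := k) (n := n)
  exact ⟨tw k n (cokernel s) (-m), isCoh_tw hcC (-m),
    ⟨e₄.symm ≪≫ twIso (isoBiprodCokernel s _ hsr) (-m) ≪≫
      twBiprod (Coh.structureModule (P k n)) (cokernel s) (-m) ≪≫
      biprod.mapIso (twIso e₃.symm (-m) ≪≫ e₅) (Iso.refl _)⟩⟩

theorem isZero_of_generated_of_H0 {G : (P k n).Modules} (hg : Curv2.IsGloballyGenerated G)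
    (h : Subsingleton (Coh.HH (P k n) G 0)) : IsZero G := by
  obtain ⟨ι, p, hp⟩ := hg
  haveI : Subsingleton ↑((Coh.toAb G).obj.obj (op ⊤)) :=
    (Sheaf.H.equiv₀ (Coh.toAb G) isTerminalTop).symm.toEquiv.subsingleton
  refine (IsZero.iff_id_eq_zero _).2 ((cancel_epi p).1 (Sigma.hom_ext _ _ fun j => ?_))
  have hz : ∀ f : Coh.structureModule (P k n) ⟶ G, f = 0 := fun f =>
    Scheme.Modules.hom_ext _ _ fun W => AddCommGrpCat.hom_ext (AddMonoidHom.ext fun r => by
      refine (InvX.app_eq_smul f (show Γ(P k n, W) from r)).trans ?_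
      rw [show InvX.one f = (0 : Γ(G, ⊤)) from @Subsingleton.elim ↑((Coh.toAb G).obj.obj (op ⊤)) _ _ _,
        map_zero, smul_zero]
      rfl)
  exact (hz (Sigma.ι (fun _ => Coh.structureModule (P k n)) j ≫ p ≫ 𝟙 G)).trans (hz _).symm

/-- The data needed in the induction passes to summands. -/
theorem retract_data {E E' : (P k n).Modules} (i : E' ⟶ E) (r : E ⟶ E') (h : i ≫ r = 𝟙 E') (m : ℤ) (q : ℕ)
    (hs : Subsingleton (Coh.HH (P k n) (tw k n E m) q)) : Subsingleton (Coh.HH (P k n) (tw k n E' m) q) :=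
  subsingleton_HH_of_retract (twMap i m) (twMap r m) (by rw [← twMap_comp, h, twMap_id]) q hs

/-- Splitting off a twist lowers the number of sections. -/
theorem finrank_tw_lt {E E' : (P k n).Modules} (hc : Coh.IsCoh E) {b : ℤ} (e : E ≅ O k n b ⊞ E') {N : ℤ}
    (hb : 0 ≤ b + N) :
    Module.finrank k (Coh.HH (P k n) (tw k n E' N) 0) < Module.finrank k (Coh.HH (P k n) (tw k n E N) 0) := by
  haveI := PnCoh.Finite.projSpace_finite_HH n k _ (isCoh_tw hc N) 0
  obtain ⟨e'⟩ := O_add (k := k) (n := n) b N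
  haveI := nontrivial_H0_O (k := k) (n := n) hb
  refine finrank_summand_lt (i₁ := twMap (biprod.inl ≫ e.inv) N)
    (r₁ := twMap (e.hom ≫ biprod.fst) N) (i := twMap (biprod.inr ≫ e.inv) N)
    (r := twMap (e.hom ≫ biprod.snd) N) ?_ ?_ ?_ 0 ?_
  · rw [← twMap_comp]
    simp [twMap_id]
  · rw [← twMap_comp]
    simp [twMap_id]
  · rw [← twMap_comp]
    simp [twMap_zero]
  · exact not_subsingleton_iff_nontrivial.1 fun hs =>
      not_subsingleton (Coh.HH (P k n) (O k n (b + N)) 0) (QCoh.subsingleton_HH_of_iso e' 0 hs)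

theorem splits_aux (hn : 1 ≤ n) (N : ℤ) : ∀ (h : ℕ) (E : (P k n).Modules),
    Coh.IsCoh E → NoMid k n E →
    (∃ m₀ : ℤ, ∀ m : ℤ, m ≤ m₀ → Subsingleton (Coh.HH (P k n) (tw k n E m) 0)) →
    Curv2.IsMRegular k n E N → Module.finrank k (Coh.HH (P k n) (tw k n E N) 0) = h →
    ∃ (r : ℕ) (a : Fin r → ℤ), Nonempty (E ≅ ∐ fun j => O k n (a j)) := by
  intro h
  induction h using Nat.strong_induction_on with
  | _ h ih =>
  intro E hc hE h0 hN hh
  classical
  by_cases hall : ∀ m ≤ N, Curv2.IsMRegular k n E m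
  · obtain ⟨m₀, hm₀⟩ := h0
    have hz := isZero_of_generated_of_H0 (S1647.result k n E hc _ (hall (min m₀ N) (min_le_right _ _)))
      (hm₀ _ (min_le_left _ _))
    have hzE : IsZero E := (IsZero.iff_id_eq_zero E).2 (twMap_injective (min m₀ N)
      (hz.eq_of_src (twMap (𝟙 E) (min m₀ N)) (twMap 0 (min m₀ N))))
    exact ⟨0, Fin.elim0, ⟨hzE.iso ((IsZero.iff_id_eq_zero _).2 (Sigma.hom_ext _ _ fun j => j.elim0))⟩⟩
  · push Not at hall
    obtain ⟨g, ⟨hgN, hg⟩, hmax⟩ := Int.exists_greatest_of_bdd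
      (P := fun m => m ≤ N ∧ ¬ Curv2.IsMRegular k n E m) ⟨N, fun z hz => hz.1⟩ hall
    have hgN' : g < N := lt_of_le_of_ne hgN fun e => hg (e ▸ hN)
    have hreg : Curv2.IsMRegular k n E (g + 1) := by
      by_contra hc'
      have := hmax (g + 1) ⟨by omega, hc'⟩
      omega
    have htop : ¬ Subsingleton (Coh.HH (P k n) (tw k n E (g + 1 - 1 - n)) n) := fun hs =>
      hg ((isMRegular_iff hn hE g).2 (by rwa [show g + 1 - 1 - (n : ℤ) = g - n by ring] at hs))
    obtain ⟨E', hc', ⟨e⟩⟩ := exists_summand hc hreg htop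
    have hir : (biprod.inr ≫ e.inv) ≫ (e.hom ≫ biprod.snd) = 𝟙 E' := by simp
    obtain ⟨m₀, hm₀⟩ := h0
    have h0' : ∃ m₀ : ℤ, ∀ m : ℤ, m ≤ m₀ → Subsingleton (Coh.HH (P k n) (tw k n E' m) 0) :=
      ⟨m₀, fun m hm => retract_data _ _ hir m 0 (hm₀ m hm)⟩
    have hN' : Curv2.IsMRegular k n E' N := fun q hq hqn => retract_data _ _ hir _ q (hN q hq hqn)
    have hlt := finrank_tw_lt hc e (N := N) (by omega)
    obtain ⟨s, a, ⟨e''⟩⟩ := ih _ (hh ▸ hlt) E' hc' (hE.of_retract _ _ hir) h0' hN' rfl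
    exact ⟨s + 1, (Fin.cons (-(g + 1)) a : Fin (s + 1) → ℤ),
      ⟨e ≪≫ biprod.mapIso (Iso.refl _) e'' ≪≫ consIso (O k n) (-(g + 1)) a⟩⟩

/-- A coherent module without intermediate cohomology and without sections in very negative degrees splits. -/
theorem exists_iso_coprod (hn : 1 ≤ n) {E : (P k n).Modules} (hc : Coh.IsCoh E) (hE : NoMid k n E)
    (h0 : ∃ m₀ : ℤ, ∀ m : ℤ, m ≤ m₀ → Subsingleton (Coh.HH (P k n) (tw k n E m) 0)) :
    ∃ (r : ℕ) (a : Fin r → ℤ), Nonempty (E ≅ ∐ fun j => O k n (a j)) := by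
  obtain ⟨N, hN⟩ := exists_regular hn hc hE
  exact splits_aux hn N _ E hc hE h0 hN rfl

theorem sigma_total {C : Type*} [Category C] [Preadditive C] [HasFiniteBiproducts C] {r : ℕ} (f : Fin r → C) :
    ∑ j, ((biproduct.isoCoproduct f).inv ≫ biproduct.π f j) ≫ (biproduct.ι f j ≫ (biproduct.isoCoproduct f).hom) =
      𝟙 (∐ f) := by
  rw [show ∑ j, ((biproduct.isoCoproduct f).inv ≫ biproduct.π f j) ≫
      (biproduct.ι f j ≫ (biproduct.isoCoproduct f).hom) =
    (biproduct.isoCoproduct f).inv ≫ (∑ j, biproduct.π f j ≫ biproduct.ι f j) ≫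
      (biproduct.isoCoproduct f).hom by simp only [Preadditive.sum_comp, Preadditive.comp_sum, Category.assoc],
    biproduct.total, Category.id_comp, Iso.inv_hom_id]

/-- Cohomology of a sum of twists. -/
theorem subsingleton_HH_tw_coprod {r : ℕ} (a : Fin r → ℤ) (q : ℕ) (d : ℤ)
    (h : ∀ j, Subsingleton (Coh.HH (P k n) (O k n (a j + d)) q)) :
    Subsingleton (Coh.HH (P k n) (tw k n (∐ fun j => O k n (a j)) d) q) := by
  haveI : HasFiniteBiproducts (P k n).Modules := HasFiniteBiproducts.of_hasFiniteProducts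
  refine PnCoh.Finite.subsingleton_HH_of_decomposition (E := tw k n (∐ fun j => O k n (a j)) d)
    (fun j => tw k n (O k n (a j)) d)
    (fun j => twMap ((biproduct.isoCoproduct fun j => O k n (a j)).inv ≫ biproduct.π _ j) d)
    (fun j => twMap (biproduct.ι (fun j => O k n (a j)) j ≫ (biproduct.isoCoproduct _).hom) d) ?_ q
    (fun j => QCoh.subsingleton_HH_of_iso (O_add (a j) d).some.symm q (h j))
  rw [← twMap_id, ← sigma_total, twMap_sum]
  exact Finset.sum_congr rfl fun j _ => (twMap_comp _ _ d).symm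

theorem noMid_coprod {r : ℕ} (a : Fin r → ℤ) : NoMid k n (∐ fun j => O k n (a j)) :=
  fun q d h0 hn => subsingleton_HH_tw_coprod a q d fun j =>
    S0844.result k n _ q (fun h => by omega) (fun h => by omega)

theorem H0_vanishing_coprod (hn : 1 ≤ n) {r : ℕ} (a : Fin r → ℤ) :
    ∃ m₀ : ℤ, ∀ m : ℤ, m ≤ m₀ →
      Subsingleton (Coh.HH (P k n) (tw k n (∐ fun j => O k n (a j)) m) 0) := by
  obtain ⟨M, hM⟩ := (Set.finite_range a).bddAbove
  refine ⟨-M - 1, fun m hm => subsingleton_HH_tw_coprod a 0 m fun j => subsingleton_H0_O hn ?_⟩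
  have := hM (Set.mem_range_self j)
  omega

end Groth.Agent.Pn90
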