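import Groth.Agent.Pic13Lib.LinearH0
import Groth.Agent.Pic13Lib.Serre
import Groth.Agent.H23.PnChart
import Groth.Agent.PnCoh.Chow.Proper
import Groth.Agent.Lib.PnDualCoh
import Groth.Agent.PnCoh.Finite.SerreVanishing
import Groth.Agent.Lib.CurveDeg
import Groth.Agent.Lib.Euler
import Groth.Agent.S0843
import Groth.Agent.S0845
import Groth.Agent.S0007
import Groth.Agent.InvX.Tensor
import Groth.Agent.Lib.InvEnd

/-!
# Basic facts on modules on projective space over a field
-/

set_option linter.style.haveILetI false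
set_option backward.isDefEq.respectTransparency false
set_option backward.isDefEq.respectTransparency.types false
set_option maxHeartbeats 800000

universe u

open CategoryTheory CategoryTheory.Limits AlgebraicGeometry TopologicalSpace Opposite

noncomputable section

namespace Groth.Agent.Pn90

open Groth.Agent

variable (k : Type u) [Field k] (n : ℕ)

/-- Projective space. -/
abbrev P : Scheme.{u} := CohB1.ProjSpace n k

/-- `O(d)`. -/
abbrev O (d : ℤ) : (P k n).Modules := Twist.twistProjSpace n k d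

/-- `F(d)`. -/
abbrev tw (F : (P k n).Modules) (d : ℤ) : (P k n).Modules := CohB1.tensorMod F (O k n d)

/-- The twisting functor. -/
abbrev twF (d : ℤ) : (P k n).Modules ⥤ (P k n).Modules := Pic13Lib.twFun (k := k) (n := n) d

/-- Vanishing of the intermediate cohomology of all twists. -/
def NoMid (E : (P k n).Modules) : Prop :=
  ∀ (i : ℕ) (d : ℤ), 0 < i → i < n → Subsingleton (Coh.HH (P k n) (tw k n E d) i)

instance isLocallyNoetherian : IsLocallyNoetherian (P k n) := Pic13Lib.isLocallyNoetherian_projSpace k n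

theorem isIntegral : IsIntegral (P k n) := H23.PnChart.isIntegral_projSpace n k

theorem isProper : IsProper ((P k n) ↘ Spec (CommRingCat.of k)) := PnCoh.Chow.isProper_toSpec n k

theorem isNoetherian : IsNoetherian (P k n) :=
  Proj16.isNoetherian_proj (CohB1.polyGrading n k)

variable {k n}

theorem isInvertible_O (d : ℤ) : PicF.IsInvertible (O k n d) := Pic13Lib.isInvertible_twistProjSpace k n d

theorem isCoh_O (d : ℤ) : Coh.IsCoh (O k n d) := CurveDeg.isCoh_of_isInvertible (isInvertible_O d)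

theorem isCoh_tw {F : (P k n).Modules} (hF : Coh.IsCoh F) (d : ℤ) : Coh.IsCoh (tw k n F d) :=
  ProjRegular.isCoh_twistBy hF d

theorem O_zero : Nonempty (O k n 0 ≅ Coh.structureModule (P k n)) :=
  ⟨(Pic13Lib.twistProjSpace_zero k n).some.symm⟩

theorem O_add (a b : ℤ) : Nonempty (tw k n (O k n a) b ≅ O k n (a + b)) :=
  Pic13Lib.twistProjSpace_tensor k n a b

theorem O_add' {a b c : ℤ} (h : a + b = c) : Nonempty (tw k n (O k n a) b ≅ O k n c) := h ▸ O_add a b

theorem tw_zero (F : (P k n).Modules) : Nonempty (tw k n F 0 ≅ F) := Pic13Lib.twP_zero F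

theorem tw_tw (F : (P k n).Modules) (a b : ℤ) : Nonempty (tw k n (tw k n F a) b ≅ tw k n F (a + b)) :=
  ProjRegular.twist_twist_iso F a b

theorem tw_tw' (F : (P k n).Modules) {a b c : ℤ} (h : a + b = c) :
    Nonempty (tw k n (tw k n F a) b ≅ tw k n F c) := h ▸ tw_tw F a b

theorem tw_tw_neg (F : (P k n).Modules) (a : ℤ) : Nonempty (tw k n (tw k n F a) (-a) ≅ F) :=
  ⟨(tw_tw' F (add_neg_cancel a)).some ≪≫ (tw_zero F).some⟩

theorem isEquivalence_twF (d : ℤ) : (twF k n d).IsEquivalence :=
  AmpleVan.isEquivalence_tw (isInvertible_O d)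

/-- Twisting of morphisms. -/
def twMap {A B : (P k n).Modules} (f : A ⟶ B) (d : ℤ) : tw k n A d ⟶ tw k n B d :=
  ((twF k n d).map (X := A) (Y := B) f :)

theorem twMap_comp {A B C : (P k n).Modules} (f : A ⟶ B) (g : B ⟶ C) (d : ℤ) :
    twMap (f ≫ g) d = twMap f d ≫ twMap g d := (twF k n d).map_comp f g

theorem twMap_id (A : (P k n).Modules) (d : ℤ) : twMap (𝟙 A) d = 𝟙 (tw k n A d) := (twF k n d).map_id A

theorem twMap_injective {A B : (P k n).Modules} (d : ℤ) :
    Function.Injective (fun f : A ⟶ B => twMap f d) := by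
  haveI := isEquivalence_twF (k := k) (n := n) d
  exact (twF k n d).map_injective (X := A) (Y := B)

theorem additive_twF (d : ℤ) : (twF k n d).Additive := by
  haveI := isEquivalence_twF (k := k) (n := n) d
  exact Functor.additive_of_preserves_binary_products _

theorem twMap_zero (A B : (P k n).Modules) (d : ℤ) : twMap (0 : A ⟶ B) d = 0 := by
  haveI := additive_twF (k := k) (n := n) d
  exact (twF k n d).map_zero A B

theorem twMap_sum {ι : Type*} {A B : (P k n).Modules} (f : ι → (A ⟶ B)) (s : Finset ι) (d : ℤ) :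
    twMap (∑ j ∈ s, f j) d = ∑ j ∈ s, twMap (f j) d := by
  haveI := additive_twF (k := k) (n := n) d
  exact (twF k n d).map_sum f s

/-- Twisting of isomorphisms. -/
def twIso {A B : (P k n).Modules} (e : A ≅ B) (d : ℤ) : tw k n A d ≅ tw k n B d where
  hom := twMap e.hom d
  inv := twMap e.inv d
  hom_inv_id := by rw [← twMap_comp, e.hom_inv_id, twMap_id]
  inv_hom_id := by rw [← twMap_comp, e.inv_hom_id, twMap_id]

/-- Twisting of binary biproducts. -/
def twBiprod (A B : (P k n).Modules) (d : ℤ) : tw k n (A ⊞ B) d ≅ tw k n A d ⊞ tw k n B d where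
  hom := biprod.lift (twMap biprod.fst d) (twMap biprod.snd d)
  inv := biprod.desc (twMap biprod.inl d) (twMap biprod.inr d)
  hom_inv_id := by
    haveI := additive_twF (k := k) (n := n) d
    rw [biprod.lift_desc, ← twMap_comp, ← twMap_comp, ← twMap_id]
    exact ((twF k n d).map_add ..).symm.trans (congrArg (twF k n d).map biprod.total)
  inv_hom_id := by
    refine biprod.hom_ext' _ _ (biprod.hom_ext _ _ ?_ ?_) (biprod.hom_ext _ _ ?_ ?_) <;>
      simp [← twMap_comp, twMap_id, twMap_zero]

/-- Cohomology of a retract. -/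
theorem subsingleton_HH_of_retract {E F : (P k n).Modules} (i : E ⟶ F) (r : F ⟶ E) (h : i ≫ r = 𝟙 E) (q : ℕ)
    (hF : Subsingleton (Coh.HH (P k n) F q)) : Subsingleton (Coh.HH (P k n) E q) := by
  refine ⟨fun a b => ?_⟩
  have key : ∀ x : Coh.HH (P k n) E q,
      Canon.HHlin k r q (Canon.HHlin k i q x) = x := fun x => by
    rw [PnDual.HHlin_comp, h, PnDual.HHlin_id]
  rw [← key a, ← key b, Subsingleton.elim (Canon.HHlin k i q a) (Canon.HHlin k i q b)]

theorem NoMid.of_retract {E F : (P k n).Modules} (i : E ⟶ F) (r : F ⟶ E) (h : i ≫ r = 𝟙 E) (hF : NoMid k n F) :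
    NoMid k n E := fun q d h0 hn =>
  subsingleton_HH_of_retract (twMap i d) (twMap r d) (by rw [← twMap_comp, h, twMap_id]) q (hF q d h0 hn)

theorem NoMid.tw {E : (P k n).Modules} (hE : NoMid k n E) (a : ℤ) : NoMid k n (Pn90.tw k n E a) :=
  fun q d h0 hn => QCoh.subsingleton_HH_of_iso (tw_tw E a d).some.symm q (hE q (a + d) h0 hn)

theorem subsingleton_H0_O {d : ℤ} (hn : 1 ≤ n) (hd : d < 0) :
    Subsingleton (Coh.HH (P k n) (O k n d) 0) :=
  S0844.result k n d 0 (fun h => by omega) (fun h => by omega)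

theorem nontrivial_H0_O {d : ℤ} (hd : 0 ≤ d) : Nontrivial (Coh.HH (P k n) (O k n d) 0) := by
  obtain ⟨m, rfl⟩ := Int.eq_ofNat_of_zero_le hd
  obtain ⟨e⟩ := S0843.result k n m
  haveI : Nontrivial (MvPolynomial.homogeneousSubmodule (Fin (n + 1)) k m) := by
    refine ⟨⟨MvPolynomial.X 0 ^ m, by simpa using (MvPolynomial.isHomogeneous_X k (0 : Fin (n + 1))).pow m⟩,
      0, fun h => ?_⟩
    exact pow_ne_zero m (MvPolynomial.X_ne_zero (0 : Fin (n + 1))) (congrArg Subtype.val h)
  exact e.toEquiv.nontrivial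

theorem nontrivial_Hn_O : Nontrivial (Coh.HH (P k n) (O k n (-((n : ℤ) + 1))) n) := by
  obtain ⟨e⟩ := S0845.result k n 0
  haveI : Nontrivial (MvPolynomial.homogeneousSubmodule (Fin (n + 1)) k 0) := by
    refine ⟨⟨1, MvPolynomial.isHomogeneous_one _ _⟩, 0, fun h => ?_⟩
    exact one_ne_zero (congrArg Subtype.val h)
  have h : O k n (-((n : ℤ) + 1 + (0 : ℕ))) = O k n (-((n : ℤ) + 1)) := by simp
  exact h ▸ e.toEquiv.nontrivial

theorem not_isClosed_genericPoint (hn : 1 ≤ n) :
    letI := isIntegral k n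
    ¬ IsClosed ({genericPoint (P k n)} : Set (P k n)) := by
  letI := isIntegral k n
  intro h
  have hall : ∀ x : P k n, x = genericPoint (P k n) := fun x =>
    (genericPoint_specializes x).mem_closed h rfl
  haveI : Subsingleton (P k n) := ⟨fun a b => (hall a).trans (hall b).symm⟩
  haveI := isAffine_of_subsingleton' (P k n)
  haveI := (isCoh_O (k := k) (n := n) (-((n : ℤ) + 1))).1
  haveI : Subsingleton (Coh.HH (P k n) (O k n (-((n : ℤ) + 1))) n) :=
    S0007.result (P k n) _ n (by omega)
  haveI := nontrivial_Hn_O (k := k) (n := n)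
  exact false_of_nontrivial_of_subsingleton (Coh.HH (P k n) (O k n (-((n : ℤ) + 1))) n)
where
  isAffine_of_subsingleton' (Z : Scheme.{u}) [Subsingleton Z] [Nonempty Z] : IsAffine Z :=
    Groth.Agent.Euler.isAffine_of_subsingleton Z

/-- On an integral scheme only the generic point is associated to a finite locally free module. -/
theorem eq_genericPoint_of_assPoint {X : Scheme.{u}} [IsIntegral X] [IsLocallyNoetherian X] {E : X.Modules}
    (hE : FlatMod.IsFinLocFree E) {x : X} (hx : Curv2.IsAssPoint E x) : x = genericPoint X := by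
  haveI := QCoh.free_stalk_of_isFinLocFree hE x
  obtain ⟨m, hm⟩ := AssPtX.isAssPoint_iff.1 hx
  have hm0 : m ≠ 0 := by
    rintro rfl
    refine (IsLocalRing.maximalIdeal.isMaximal (X.presheaf.stalk x)).ne_top (hm.symm.trans ?_)
    rw [Ideal.radical_eq_top, eq_top_iff]
    exact fun a _ => LinearMap.mem_ker.2 (smul_zero a)
  have hker : LinearMap.ker (LinearMap.toSpanSingleton (X.presheaf.stalk x) (E.presheaf.stalk x) m) = ⊥ :=
    LinearMap.ker_eq_bot'.2 fun a ha => (smul_eq_zero.1 ha).resolve_right hm0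
  rw [hker] at hm
  have hF : IsField (X.presheaf.stalk x) := by
    rw [IsLocalRing.isField_iff_maximalIdeal_eq, ← hm]
    exact (Ideal.isRadical_bot_iff.2 inferInstance).radical
  have h0 : ringKrullDim (X.presheaf.stalk x) = 0 := ringKrullDim_eq_zero_of_isField hF
  rw [ringKrullDim_stalk_eq_coheight] at h0
  have h1 : IsMax x := Order.coheight_eq_zero.1 (by exact_mod_cast h0)
  exact ((genericPoint_specializes x).antisymm (h1 (genericPoint_specializes x))).eq.symm

theorem no_closed_assPoint (hn : 1 ≤ n) {E : (P k n).Modules} (hE : FlatMod.IsFinLocFree E) (x : P k n)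
    (hx : Curv2.IsAssPoint E x) : ¬ IsClosed ({x} : Set (P k n)) := by
  letI := isIntegral k n
  rw [eq_genericPoint_of_assPoint hE hx]
  exact not_isClosed_genericPoint hn

/-- Negative twists of a vector bundle have no sections. -/
theorem exists_H0_vanishing [IsAlgClosed k] (hn : 1 ≤ n) {E : (P k n).Modules} (hE : FlatMod.IsFinLocFree E) :
    ∃ m₀ : ℤ, ∀ m : ℤ, m ≤ m₀ → Subsingleton (Coh.HH (P k n) (tw k n E m) 0) := by
  have hc : Coh.IsCoh E := CurveDeg.isCoh_of_isFinLocFree hE
  refine ⟨-(Module.finrank k (Coh.HH (P k n) E 0) : ℤ), fun m hm => ?_⟩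
  obtain ⟨j, rfl⟩ : ∃ j : ℕ, m = -(j : ℤ) := ⟨(-m).toNat, by omega⟩
  have h := Pic13Lib.h0_twP_neg hc (fun x hx => no_closed_assPoint hn hE x hx) j
  haveI := PnCoh.Finite.projSpace_finite_HH n k _ (isCoh_tw hc (-(j : ℤ))) 0
  have h0 : Module.finrank k (Coh.HH (P k n) (tw k n E (-(j : ℤ))) 0) = 0 := by
    have : Module.finrank k (Coh.HH (P k n) E 0) - j = 0 := by omega
    exact Nat.le_zero.1 (h.trans this.le)
  exact Module.finrank_zero_iff.1 h0

/-- A nonzero endomorphism of `O` is invertible. -/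
theorem isIso_end_structure {f : Coh.structureModule (P k n) ⟶ Coh.structureModule (P k n)} (hf : f ≠ 0) :
    IsIso f := by
  letI := isIntegral k n
  haveI := isProper k n
  let a : Γ(P k n, ⊤) := InvX.one f
  have ha : a ≠ 0 := by
    intro h0
    refine hf (Scheme.Modules.hom_ext _ _ fun W => AddCommGrpCat.hom_ext (AddMonoidHom.ext fun r => ?_))
    refine (InvX.app_eq_smul f (show Γ(P k n, W) from r)).trans ?_
    show _ • AModX.res _ _ (InvX.one f) = _
    rw [show InvX.one f = (0 : Γ(Coh.structureModule (P k n), ⊤)) from h0, map_zero, smul_zero]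
    rfl
  have hu : IsUnit a := by
    obtain ⟨b, hb⟩ :=
      (isField_of_universallyClosed k ((P k n) ↘ Spec (CommRingCat.of k))).mul_inv_cancel ha
    exact IsUnit.of_mul_eq_one b hb
  have hfr : InvX.IsFrame (AModX.res (Coh.structureModule (P k n)) (le_top : (⊤ : (P k n).Opens) ≤ ⊤) (InvX.one f)) := by
    rw [AModX.res_self]
    intro V hV
    have h1 : IsUnit (AModX.resR hV a) := hu.map _
    exact ⟨fun r r' e => h1.mul_right_cancel e, fun z => ⟨(show Γ(P k n, V) from z) * ↑h1.unit⁻¹, by
      show (show Γ(P k n, V) from z) * ↑h1.unit⁻¹ * AModX.resR hV a = (show Γ(P k n, V) from z)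
      rw [mul_assoc, IsUnit.val_inv_mul, mul_one]⟩⟩
  refine Scheme.Modules.Hom.isIso_iff_isIso_app.2 fun V => (ConcreteCategory.isIso_iff_bijective _).2 ?_
  have hb := hfr V le_top
  simp only [AModX.res_self] at hb
  rw [show (f.app V : _ → _) = fun r : Γ(P k n, V) => r • AModX.res (Coh.structureModule (P k n))
    (le_top : V ≤ ⊤) (InvX.one f) from funext fun r => InvX.app_eq_smul f r]
  exact hb

end Groth.Agent.Pn90
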