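import Groth.Agent.ExtDet90.Det
import Groth.Agent.QCoh.Support
import Groth.Agent.QCoh.LocFree
import Groth.Agent.Pn90.Basic
import Mathlib.LinearAlgebra.Matrix.ToLin
import Mathlib.LinearAlgebra.Matrix.NonsingularInverse

/-!
# Globally generated bundles with trivial determinant are trivial
-/

set_option linter.style.haveILetI false
set_option backward.isDefEq.respectTransparency false
set_option backward.isDefEq.respectTransparency.types false
set_option maxHeartbeats 800000

universe u

open CategoryTheory CategoryTheory.Limits AlgebraicGeometry TopologicalSpace Opposite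

noncomputable section

namespace Groth.Agent.Pn90.GGTriv

open Groth.Agent.AModX Groth.Agent.ExtDet90 Groth.Agent.H23 Groth.Agent.Div86

variable {X : Scheme.{u}} {E L : X.Modules} {r N : ℕ}

/-- A family with invertible determinant in a frame is a frame. -/
theorem isFrame_of_isUnit_det {V : X.Opens} {b : Fin r → Γ(E, V)} (hb : Frame.IsFrame E b)
    (t : Fin r → Γ(E, V)) (h : IsUnit ((frameBasis hb).det t)) : Frame.IsFrame E t := by
  intro W hW
  let A : Matrix (Fin r) (Fin r) Γ(X, W) := ((frameBasis hb).toMatrix t).map (resR hW)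
  have hA : IsUnit A.det := by
    rw [show A.det = resR hW ((frameBasis hb).det t) by
      rw [Module.Basis.det_apply]; exact ((resR (X := X) hW).map_det _).symm]
    exact h.map _
  have key : Frame.comb E t W hW = Frame.comb E b W hW ∘ A.mulVec := by
    funext c
    show ∑ j, c j • res E hW (t j) = ∑ i, (∑ j, A i j * c j) • res E hW (b i)
    simp only [Finset.sum_smul]
    rw [Finset.sum_comm]
    refine Finset.sum_congr rfl fun j _ => ?_
    have h1 : t j = ∑ i, (frameBasis hb).toMatrix t i j • b i := by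
      conv_lhs => rw [← (frameBasis hb).sum_repr (t j)]
      simp [Module.Basis.toMatrix_apply]
    conv_lhs => rw [h1]
    rw [map_sum, Finset.smul_sum]
    refine Finset.sum_congr rfl fun i _ => ?_
    rw [res_smul, smul_smul, mul_comm]
    rfl
  rw [key]
  refine (hb W hW).comp (Function.bijective_iff_has_inverse.2 ⟨A⁻¹.mulVec, fun c => ?_, fun c => ?_⟩)
  · rw [Matrix.mulVec_mulVec, Matrix.nonsing_inv_mul A hA, Matrix.one_mulVec]
  · rw [Matrix.mulVec_mulVec, Matrix.mul_nonsing_inv A hA, Matrix.one_mulVec]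

/-- A family which is a frame near every point is a frame. -/
theorem isFrame_of_locally {U : X.Opens} (t : Fin r → Γ(E, U))
    (h : ∀ x ∈ U, ∃ (V : X.Opens) (hV : V ≤ U), x ∈ V ∧ Frame.IsFrame E fun i => res E hV (t i)) :
    Frame.IsFrame E t := by
  refine isFrame_of_gcomb fun x hx => ?_
  obtain ⟨V, hV, hxV, hf⟩ := h x hx
  have e : gcomb E (fun i => res E hV (t i)) hxV = gcomb E t hx := by
    funext c
    refine Finset.sum_congr rfl fun i _ => ?_
    exact congrArg (c i • ·) (InvX.germ_res' hV hxV (t i))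
  exact e ▸ gcomb_bijective hf hxV

/-- A global frame gives a trivialisation. -/
theorem nonempty_iso_free_of_frame (t : Fin r → Γ(E, ⊤)) (ht : Frame.IsFrame E t) :
    Nonempty (E ≅ FlatMod.freeMod X r) := by
  let φ : FlatMod.freeMod X r ⟶ E := Sigma.desc fun i => QCoh.homOfTop (t i)
  suffices IsIso φ from ⟨(asIso φ).symm⟩
  refine Scheme.Modules.Hom.isIso_iff_isIso_app.mpr fun W => ?_
  rw [ConcreteCategory.isIso_iff_bijective]
  have hb := (Frame.incl_isFrame (X := X) (n := r)) W le_top
  have key : (fun x => φ.app W x) ∘ Frame.comb (FlatMod.freeMod X r)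
      (fun i => (Frame.incl X r i).app ⊤ (Frame.one ⊤)) W le_top = Frame.comb E t W le_top := by
    funext c
    simp only [Function.comp, Frame.comb, map_sum]
    refine Finset.sum_congr rfl fun i _ => ?_
    refine (Scheme.Modules.Hom.app_smul φ (M := FlatMod.freeMod X r) _ _).trans ?_
    refine congrArg (c i • ·) ?_
    rw [Frame.app_one_res (Frame.incl X r i) (le_top (a := W))]
    show (Frame.incl X r i ≫ φ).app W (Frame.one W) = _
    rw [Frame.incl, Sigma.ι_desc]
    exact (QCoh.homOfTop_app _ _).trans (one_smul Γ(X, W) _)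
  exact (Function.Bijective.of_comp_iff _ hb).mp (key ▸ ht W le_top)

theorem isQCoh_freeMod (n : ℕ) : Coh.IsQCoh (FlatMod.freeMod X n) :=
  QCoh.isQCoh_of_isFinLocFree fun x =>
    ⟨⊤, n, trivial, Frame.exists_iso_of_frame _ Frame.incl_isFrame⟩

/-- A globally generated bundle with trivial determinant on a scheme whose functions form a field is
trivial. -/
theorem nonempty_iso_free [IsIntegral X] (hfield : IsField Γ(X, ⊤)) (hE : FlatMod.IsFinLocFreeOfRank r E)
    (ψ : FlatMod.freeMod X N ⟶ E) [Epi ψ] (hL : ExtPow.IsExtPow r E L) (eL : L ≅ Coh.structureModule X) :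
    Nonempty (E ≅ FlatMod.freeMod X r) := by
  classical
  let g : Fin N → Γ(E, ⊤) := fun j => ψ.app ⊤ ((Frame.incl X N j).app ⊤ (Frame.one ⊤))
  have hframe : ∀ x : X, ∃ (V : X.Opens) (_ : IsAffineOpen V), x ∈ V ∧
      ∃ b : Fin r → Γ(E, V), Frame.IsFrame E b := fun x => by
    obtain ⟨U, hxU, ⟨φ⟩⟩ := hE x
    obtain ⟨b, hb⟩ := Frame.exists_frame φ
    obtain ⟨V, hV, hxV, hVU⟩ := exists_isAffineOpen_mem_and_subset (x := x) (U := U) hxU
    exact ⟨V, hV, hxV, _, frame_res hb hVU⟩
  -- the global section given by a choice of generators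
  have hw : ∀ σ : Fin r → Fin N, ∃ f : Coh.structureModule X ⟶ L, ∀ (V : X.affineOpens) (a : Γ(X, V.1)),
      f.app V.1 a = a • ExtP.wedge hL V.2 fun i => res E le_top (g (σ i)) := fun σ => by
    obtain ⟨f, hf⟩ := ExtDet90.exists_hom (M := Coh.structureModule X) (N := L) (Q := fun _ => True)
      (fun _ _ _ _ => trivial) (fun x => let ⟨V, hV, hxV, _⟩ := hframe x; ⟨⟨V, hV⟩, trivial, hxV⟩)
      (fun V _ => LinearMap.toSpanSingleton Γ(X, V.1) Γ(L, V.1)
        (ExtP.wedge hL V.2 fun i => res E le_top (g (σ i)))) fun U V h _ _ a => by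
        show res L h ((show Γ(X, U.1) from a) • _) = resR h (show Γ(X, U.1) from a) • _
        rw [res_smul, ExtP.res_wedge hL U.2 V.2 h]
        simp only [res_res]

    exact ⟨f, fun V a => hf V trivial a⟩
  choose f hf using hw
  let a : (Fin r → Fin N) → Γ(X, ⊤) := fun σ => InvX.one (f σ ≫ eL.hom)
  have ha : ∀ σ (V : X.affineOpens),
      eL.hom.app V.1 (ExtP.wedge hL V.2 fun i => res E le_top (g (σ i))) = resR le_top (a σ) := fun σ V => by
    have h1 : eL.hom.app V.1 ((f σ).app V.1 (1 : Γ(X, V.1))) = resR le_top (a σ) := by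
      show (f σ ≫ eL.hom).app V.1 (1 : Γ(X, V.1)) = _
      exact (Frame.app_one_res (f σ ≫ eL.hom) (le_top (a := V.1))).symm
    rw [← h1, hf, one_smul]
  obtain ⟨σ, hσ⟩ : ∃ σ, a σ ≠ 0 := by
    by_contra hall
    push Not at hall
    obtain ⟨x₀⟩ := (inferInstance : Nonempty X)
    obtain ⟨V, hV, hxV, b, hb⟩ := hframe x₀
    haveI : Nonempty V := ⟨⟨x₀, hxV⟩⟩
    have hz : ∀ σ : Fin r → Fin N, ExtP.wedge hL hV (fun i => res E (le_top : V ≤ ⊤) (g (σ i))) = 0 := fun σ => by
      apply (ConcreteCategory.bijective_of_isIso (eL.hom.app V)).1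
      rw [map_zero, ha σ ⟨V, hV⟩, hall σ, map_zero]
    have hgen : ∀ i, ∃ c : Fin N → Γ(X, V), b i = ∑ j, c j • res E le_top (g j) := fun i => by
      obtain ⟨y, hy⟩ := QCoh.app_surjective_of_epi (isQCoh_freeMod N)
        (QCoh.isQCoh_of_isFinLocFree fun x => let ⟨U, hx, e⟩ := hE x; ⟨U, r, hx, e⟩) ψ hV (b i)
      obtain ⟨c, rfl⟩ := ((Frame.incl_isFrame (X := X) (n := N)) V le_top).2 y
      refine ⟨c, hy.symm.trans ?_⟩
      refine (map_sum (ψ.app V).hom _ _).trans (Finset.sum_congr rfl fun j _ => ?_)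
      refine (Scheme.Modules.Hom.app_smul ψ (M := FlatMod.freeMod X N) _ _).trans ?_
      exact congrArg (c j • ·) (app_res ψ (le_top : V ≤ ⊤) _)
    choose c hc using hgen
    have h0 : exteriorPower.ιMulti Γ(X, V) r b = 0 := by
      rw [funext hc, ← AlternatingMap.coe_multilinearMap, MultilinearMap.map_sum]
      refine Finset.sum_eq_zero fun σ _ => ?_
      rw [MultilinearMap.map_smul_univ]
      have h1 := congrArg (ExtP.chart hL hV) (hz σ)
      rw [ExtP.wedge, LinearEquiv.apply_symm_apply, map_zero] at h1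
      rw [AlternatingMap.coe_multilinearMap, h1, smul_zero]
    have h2 := congrArg (detEquiv (frameBasis hb)) h0
    rw [detEquiv_ιMulti, det_frame_self, map_zero] at h2
    exact one_ne_zero h2
  have hu : IsUnit (a σ) := by
    obtain ⟨c, hc⟩ := hfield.mul_inv_cancel hσ
    exact IsUnit.of_mul_eq_one c hc
  refine nonempty_iso_free_of_frame (fun i => g (σ i)) (isFrame_of_locally _ fun x _ => ?_)
  obtain ⟨V, hV, hxV, b, hb⟩ := hframe x
  refine ⟨V, le_top, hxV, isFrame_of_isUnit_det hb _ ?_⟩
  have hwf : InvX.IsFrame (ExtP.wedge hL hV fun i => res E (le_top : V ≤ ⊤) (g (σ i))) := by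
    have h1 : InvX.IsFrame (M := Coh.structureModule X) (U := V)
        ((resR (le_top : V ≤ ⊤) (a σ)) • (1 : Γ(X, V))) :=
      InvX.IsFrame.isUnit_smul (InvX.isFrame_one V) (hu.map _)
    have h2 := h1.map_iso eL.symm
    refine (congrArg InvX.IsFrame ?_).mpr h2
    apply (ConcreteCategory.bijective_of_isIso (eL.hom.app V)).1
    rw [ha σ ⟨V, hV⟩]
    show _ = eL.hom.app V (eL.inv.app V (resR (le_top : V ≤ ⊤) (a σ) * 1))
    rw [mul_one]
    exact (congrArg (fun q : Coh.structureModule X ⟶ Coh.structureModule X =>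
      q.app V (resR (le_top : V ≤ ⊤) (a σ))) eL.inv_hom_id).symm
  exact PicfLib.Trans.isUnit_coord (isFrame_wedge hL hV hb) hwf (wedge_eq hL hV hb _)

end Groth.Agent.Pn90.GGTriv
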