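import Groth.Agent.Pn90.SplitSeq
import Groth.Agent.ParShLib.ResStalk
import Groth.Agent.CurveCohLib.Euler
import Groth.Agent.Lib.CurveBundle

/-!
# Sections of twisted ideal sheaves on projective space
-/

set_option linter.style.haveILetI false
set_option backward.isDefEq.respectTransparency false
set_option backward.isDefEq.respectTransparency.types false
set_option maxHeartbeats 400000

universe u

open CategoryTheory CategoryTheory.Limits AlgebraicGeometry TopologicalSpace Opposite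

noncomputable section

namespace Groth.Agent.Pn90

open Groth.Agent

variable {k : Type u} [Field k] {n : ℕ}

theorem isCoh_idealMod (Z : (P k n).IdealSheafData) : Coh.IsCoh (ClSub.idealMod Z) :=
  QCoh.isCoh_kernel QCoh.isCoh_structureModule' (ParShLib.isCoh_quotMod Z) _

theorem isFinLocFree_structure : FlatMod.IsFinLocFree (Coh.structureModule (P k n)) := fun x =>
  let ⟨U, hx, e⟩ := InvEnd.isFinLocFreeOfRank_one (InvX.isInvertible_structureModule (X := P k n)) x
  ⟨U, 1, hx, e⟩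

theorem isWeakAssPoint_of_mono {X : Scheme.{u}} {G F : X.Modules} (j : G ⟶ F) [Mono j] {x : X}
    (h : Curv2.IsWeakAssPoint G x) : Curv2.IsWeakAssPoint F x := by
  rw [AssPtX.isWeakAssPoint_iff] at h ⊢
  exact WeakAss.weakAss_subset_of_injective _ (CurveBundle.stalkMap_injective j x) h

/-- Sections of twists of a submodule of a vector bundle vanish downwards. -/
theorem subsingleton_H0_antitone [Infinite k] (hn : 1 ≤ n) {G F : (P k n).Modules} (hG : Coh.IsCoh G)
    (j : G ⟶ F) [Mono j] (hF : FlatMod.IsFinLocFree F) {d d' : ℤ} (h : d' ≤ d)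
    (hd : Subsingleton (Coh.HH (P k n) (tw k n G d) 0)) : Subsingleton (Coh.HH (P k n) (tw k n G d') 0) := by
  have hass : ∀ x, Curv2.IsWeakAssPoint G x → ¬ IsClosed ({x} : Set (P k n)) := fun x hx =>
    no_closed_assPoint hn hF x (AssPtX.isAssPoint_iff.2 (isWeakAssPoint_of_mono j hx))
  obtain ⟨a, ha⟩ := Pic13Lib.exists_form_avoiding hG hass
  obtain ⟨m, rfl⟩ : ∃ m : ℕ, d' = d - (m : ℤ) := ⟨(d - d').toNat, by omega⟩
  induction m with
  | zero => simpa using hd
  | succ m ih =>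
    rw [show d - ((m + 1 : ℕ) : ℤ) = d - (m : ℤ) - 1 by omega]
    haveI := ih (by omega)
    exact (Pic13Lib.injective_mulFormLin hG (d - (m : ℤ)) a ha).subsingleton

/-- Vanishing of the sections of the middle term of a sequence. -/
theorem subsingleton_H0_iff {X : Scheme.{u}} [X.Over (Spec (CommRingCat.of k))] {S : ShortComplex X.Modules}
    (hS : S.ShortExact) (h1 : Subsingleton (Coh.HH X S.X₁ 1)) :
    Subsingleton (Coh.HH X S.X₂ 0) ↔ Subsingleton (Coh.HH X S.X₁ 0) ∧ Subsingleton (Coh.HH X S.X₃ 0) := by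
  refine ⟨fun h => ⟨(CurveCohLib.mapLin_f_zero_injective k hS).subsingleton, ⟨fun a b => ?_⟩⟩, fun ⟨h₁, h₃⟩ => ⟨fun a b => ?_⟩⟩
  · obtain ⟨a', rfl⟩ := PnCoh.Finite.exists_of_deltaLin_eq_zero k hS 0 (x := a) (Subsingleton.elim _ _)
    obtain ⟨b', rfl⟩ := PnCoh.Finite.exists_of_deltaLin_eq_zero k hS 0 (x := b) (Subsingleton.elim _ _)
    rw [Subsingleton.elim a' b']
  · have key : ∀ a : Coh.HH X S.X₂ 0, a = 0 := fun a => by
      have ha : a ∈ LinearMap.ker (PnCoh.Finite.mapLin k S.g 0) := LinearMap.mem_ker.2 (Subsingleton.elim _ _)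
      rw [CurveCohLib.ker_mapLin_g k hS 0] at ha
      obtain ⟨y, rfl⟩ := ha
      rw [Subsingleton.elim y 0, map_zero]
    rw [key a, key b]

/-- Sections of twists of a bundle given by a section with ideal `J`. -/
theorem subsingleton_H0_extension [Infinite k] (hn : 2 ≤ n) (Z : (P k n).IdealSheafData) {c : ℤ}
    {S : ShortComplex (P k n).Modules} (hS : S.ShortExact) (e₁ : S.X₁ ≅ Coh.structureModule (P k n))
    (e₃ : S.X₃ ≅ tw k n (ClSub.idealMod Z) c) (k₀ : ℤ) :
    Subsingleton (Coh.HH (P k n) (tw k n S.X₂ k₀) 0) ↔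
      k₀ < 0 ∧ ∀ d : ℤ, d ≤ c + k₀ → Subsingleton (Coh.HH (P k n) (tw k n (ClSub.idealMod Z) d) 0) := by
  obtain ⟨e₀⟩ := O_zero (k := k) (n := n)
  obtain ⟨e₁'⟩ := O_add' (k := k) (n := n) (zero_add k₀)
  obtain ⟨e₃'⟩ := tw_tw (ClSub.idealMod Z) c k₀
  let f₁ : tw k n S.X₁ k₀ ≅ O k n k₀ := twIso (e₁ ≪≫ e₀.symm) k₀ ≪≫ e₁'
  let f₃ : tw k n S.X₃ k₀ ≅ tw k n (ClSub.idealMod Z) (c + k₀) := twIso e₃ k₀ ≪≫ e₃'
  have h1 : Subsingleton (Coh.HH (P k n) (twCx S k₀).X₁ 1) :=
    QCoh.subsingleton_HH_of_iso f₁.symm 1 (S0844.result k n k₀ 1 (fun h => by omega) (fun h => by omega))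
  refine (subsingleton_H0_iff (k := k) (shortExact_twCx hS k₀) h1).trans (and_congr ⟨fun h => ?_, fun h => ?_⟩ ?_)
  · by_contra hk
    haveI := nontrivial_H0_O (k := k) (n := n) (not_lt.1 hk)
    exact not_subsingleton (Coh.HH (P k n) (O k n k₀) 0) (QCoh.subsingleton_HH_of_iso f₁ 0 h)
  · exact QCoh.subsingleton_HH_of_iso f₁.symm 0 (subsingleton_H0_O (by omega) h)
  · refine ⟨fun h d hd => ?_, fun h => QCoh.subsingleton_HH_of_iso f₃.symm 0 (h _ le_rfl)⟩
    haveI : Mono (ClSub.idealModι Z) := inferInstanceAs (Mono (kernel.ι _))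
    exact subsingleton_H0_antitone (by omega) (isCoh_idealMod Z) (ClSub.idealModι Z) isFinLocFree_structure hd
      (QCoh.subsingleton_HH_of_iso f₃ 0 h)

end Groth.Agent.Pn90
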