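import Groth.Agent.Pn90.Split
import Groth.Agent.Lib.CurveSlope
import Groth.Agent.KZ.OpenExt
import Groth.Agent.S3581

/-!
# Ranks of sums of twists; vector bundles on a point
-/

set_option linter.style.haveILetI false
set_option backward.isDefEq.respectTransparency false
set_option backward.isDefEq.respectTransparency.types false

universe u

open CategoryTheory CategoryTheory.Limits AlgebraicGeometry TopologicalSpace Opposite

noncomputable section

namespace Groth.Agent.Pn90

open Groth.Agent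

variable {k : Type u} [Field k] {n : ℕ}

theorem isFinLocFreeOfRank_O (d : ℤ) : FlatMod.IsFinLocFreeOfRank 1 (O k n d) :=
  InvEnd.isFinLocFreeOfRank_one (isInvertible_O d)

theorem isCoh_congr {A B : (P k n).Modules} (e : A ≅ B) (h : Coh.IsCoh A) : Coh.IsCoh B :=
  have hq := (QCoh.isQCoh_iff_iso e).1 h.1
  ⟨hq, (QCoh.isCoh_of_epi e.hom h hq).2⟩

theorem isZero_coprod_empty {C : Type*} [Category C] [Preadditive C] (f : Fin 0 → C) [HasCoproduct f] :
    IsZero (∐ f) :=
  (IsZero.iff_id_eq_zero _).2 (Sigma.hom_ext _ _ fun j => j.elim0)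

theorem shortExact_biprod (A B : (P k n).Modules) :
    (ShortComplex.mk (biprod.inl : A ⟶ A ⊞ B) biprod.snd biprod.inl_snd).ShortExact :=
  (ShortComplex.Splitting.ofHasBinaryBiproduct A B).shortExact

theorem isCoh_and_rk_coprod : ∀ (r : ℕ) (a : Fin r → ℤ),
    letI := isIntegral k n
    Coh.IsCoh (∐ fun j => O k n (a j)) ∧ CurveBundle.rk (∐ fun j => O k n (a j)) = r := by
  letI := isIntegral k n
  haveI := isProper k n
  intro r
  induction r with
  | zero => exact fun a => ⟨isCoh_congr ((isZero_zero _).iso (isZero_coprod_empty _)) KZ.isCoh_zero,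
      CurveSlope.rk_eq_zero_of_isZero (isZero_coprod_empty _)⟩
  | succ r ih =>
    intro a
    obtain ⟨hc, hr⟩ := ih (Fin.tail a)
    have e : O k n (a 0) ⊞ (∐ fun j => O k n (Fin.tail a j)) ≅ ∐ fun j => O k n (a j) :=
      consIso (O k n) (a 0) (Fin.tail a) ≪≫ eqToIso (by rw [Fin.cons_self_tail])
    have hB := KZ.isCoh_biprod (isCoh_O (k := k) (n := n) (a 0)) hc
    refine ⟨isCoh_congr e hB, ?_⟩
    rw [← CurveSlope.rk_congr e, CurveSlope.rk_add_coh k _ _ _ (shortExact_biprod _ _) hB,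
      CurveBundle.rk_eq (isFinLocFreeOfRank_O (a 0)), hr, add_comm]

theorem eq_of_iso_coprod {r r' : ℕ} {E : (P k n).Modules} (hE : FlatMod.IsFinLocFreeOfRank r E)
    {a : Fin r' → ℤ} (e : E ≅ ∐ fun j => O k n (a j)) : r' = r := by
  letI := isIntegral k n
  rw [← CurveBundle.rk_eq hE, CurveSlope.rk_congr e]
  exact ((isCoh_and_rk_coprod r' a).2).symm

/-- A vector bundle on a scheme with one point is free. -/
theorem exists_iso_free_of_subsingleton {X : Scheme.{u}} [Subsingleton X] [Nonempty X] {r : ℕ} {E : X.Modules}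
    (hE : FlatMod.IsFinLocFreeOfRank r E) : Nonempty (E ≅ ∐ fun _ : Fin r => Coh.structureModule X) := by
  obtain ⟨x⟩ : Nonempty X := inferInstance
  obtain ⟨U, hxU, ⟨e⟩⟩ := hE x
  have hU : U = ⊤ := by
    ext w
    exact ⟨fun _ => trivial, fun _ => Subsingleton.elim x w ▸ hxU⟩
  subst hU
  exact ⟨(Scheme.Modules.restrictFunctorId.app E).symm ≪≫
    (Scheme.Modules.restrictFunctorCongr (show 𝟙 X = X.topIso.inv ≫ (⊤ : X.Opens).ι by
      rw [← Scheme.topIso_hom, Iso.inv_hom_id])).app E ≪≫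
    (Scheme.Modules.restrictFunctorComp X.topIso.inv (⊤ : X.Opens).ι).app E ≪≫
    (Scheme.Modules.restrictFunctor X.topIso.inv).mapIso e ≪≫
    PreservesCoproduct.iso (Scheme.Modules.restrictFunctor X.topIso.inv) _ ≪≫
    Sigma.mapIso fun _ => Scheme.Modules.restrictUnitIso _⟩

theorem exists_iso_coprod_zero {r : ℕ} {E : (P k 0).Modules} (hE : FlatMod.IsFinLocFreeOfRank r E) :
    Nonempty (E ≅ ∐ fun _ : Fin r => O k 0 0) := by
  letI := isIntegral k 0
  haveI : IsIso (CohB1.ProjSpace.toSpec 0 k) := S3581.result k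
  haveI : Subsingleton (P k 0) := (asIso (CohB1.ProjSpace.toSpec 0 k)).schemeIsoToHomeo.injective.subsingleton
  obtain ⟨e⟩ := exists_iso_free_of_subsingleton hE
  obtain ⟨e'⟩ := O_zero (k := k) (n := 0)
  exact ⟨e ≪≫ Sigma.mapIso fun _ => e'.symm⟩

end Groth.Agent.Pn90
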