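import Groth.Agent.Pn90.Basic
import Groth.Agent.ExtDet90.Det
import Groth.Agent.H44Adj.ExtExists
import Groth.Agent.QCoh.LocFree
import Groth.Prelude.Def_DCoh4

/-!
# Simple rank two bundles on projective space have no sections in the normalised twist
-/

set_option linter.style.haveILetI false
set_option backward.isDefEq.respectTransparency false
set_option backward.isDefEq.respectTransparency.types false
set_option maxHeartbeats 800000

universe u

open CategoryTheory CategoryTheory.Limits AlgebraicGeometry TopologicalSpace Opposite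

noncomputable section

namespace Groth.Agent.Pn90

open Groth.Agent.AModX Groth.Agent.ExtDet90 Groth.Agent.H23

/-- Tensoring two isomorphisms. -/
def tensorIso {X : Scheme.{u}} {A A' B B' : X.Modules} (e : A ≅ A') (e' : B ≅ B') :
    CohB1.tensorMod A B ≅ CohB1.tensorMod A' B' :=
  ((DCoh.tensorBi (X := X)).mapIso e).app B ≪≫ ((DCoh.tensorBi (X := X)).obj A').mapIso e'

/-- A tensor product with a line bundle has frames. -/
theorem isFinLocFreeOfRank_tensor {X : Scheme.{u}} {n : ℕ} {E L : X.Modules}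
    (hE : FlatMod.IsFinLocFreeOfRank n E) (hL : FlatMod.IsFinLocFreeOfRank 1 L) :
    FlatMod.IsFinLocFreeOfRank n (CohB1.tensorMod E L) := fun x => by
  obtain ⟨U, hU, ⟨φ⟩⟩ := hE x
  obtain ⟨W, hW, ⟨ψ⟩⟩ := hL x
  obtain ⟨b, hb⟩ := Frame.exists_frame φ
  obtain ⟨c, hc⟩ := Frame.exists_frame ψ
  obtain ⟨e⟩ := Frame.exists_iso_of_frame _ (isFrame_tensor (frame_res hb (inf_le_left : U ⊓ W ≤ U))
    (frame_res hc (inf_le_right : U ⊓ W ≤ W)))
  rw [Nat.mul_one] at e
  exact ⟨U ⊓ W, ⟨hU, hW⟩, ⟨e⟩⟩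

/-- The map `a ↦ s ∧ a` on sections. -/
def wedgeSec {X : Scheme.{u}} {E M : X.Modules} (hM : ExtPow.IsExtPow 2 E M) {U : X.Opens}
    (hU : IsAffineOpen U) (s : Γ(E, U)) : Γ(E, U) →ₗ[Γ(X, U)] Γ(M, U) :=
  (Div86.ExtP.chart hM hU).symm.toLinearMap ∘ₗ
    (exteriorPower.ιMulti Γ(X, U) 2 (M := Γ(E, U))).toMultilinearMap.toLinearMap ![s, 0] 1

theorem wedgeSec_apply {X : Scheme.{u}} {E M : X.Modules} (hM : ExtPow.IsExtPow 2 E M) {U : X.Opens}
    (hU : IsAffineOpen U) (s a : Γ(E, U)) : wedgeSec hM hU s a = Div86.ExtP.wedge hM hU ![s, a] := by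
  have h : Function.update (![s, 0] : Fin 2 → Γ(E, U)) 1 a = ![s, a] := by
    funext i; fin_cases i <;> simp
  show (Div86.ExtP.chart hM hU).symm (exteriorPower.ιMulti Γ(X, U) 2
    (Function.update (![s, 0] : Fin 2 → Γ(E, U)) 1 a)) = _
  rw [h]
  rfl

/-- Wedging with a global section. -/
theorem exists_wedge_hom {X : Scheme.{u}} {E M : X.Modules} (hM : ExtPow.IsExtPow 2 E M) (s : Γ(E, ⊤)) :
    ∃ ψ : E ⟶ M, ∀ (U : X.affineOpens) (a : Γ(E, U.1)),
      ψ.app U.1 a = Div86.ExtP.wedge hM U.2 ![res E le_top s, a] := by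
  obtain ⟨ψ, hψ⟩ := ExtDet90.exists_hom (M := E) (N := M) (Q := fun _ => True) (fun _ _ _ _ => trivial)
    (fun x => by
      obtain ⟨V, hV, hxV, -⟩ := exists_isAffineOpen_mem_and_subset (x := x) (U := ⊤) trivial
      exact ⟨⟨V, hV⟩, trivial, hxV⟩)
    (fun U _ => wedgeSec hM U.2 (res E le_top s)) fun U V h _ _ a => by
      rw [wedgeSec_apply, wedgeSec_apply, Div86.ExtP.res_wedge hM U.2 V.2 h]
      refine congrArg _ (funext fun i => ?_)
      fin_cases i
      · exact res_res _ _ _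
      · rfl
  exact ⟨ψ, fun U a => (hψ U trivial a).trans (wedgeSec_apply hM U.2 _ a)⟩

variable {k : Type u} [Field k] {n : ℕ}

theorem subsingleton_H0_of_sections {X : Scheme.{u}} (G : X.Modules) (h : ∀ s : Γ(G, ⊤), s = 0) :
    Subsingleton (Coh.HH X G 0) := by
  refine ⟨fun a b => (Sheaf.H.equiv₀ (Coh.toAb G) isTerminalTop).injective ?_⟩
  exact (h _).trans (h _).symm

/-- A section whose wedge with everything vanishes is zero. -/
theorem exists_wedge_ne_zero {X : Scheme.{u}} [IsIntegral X] {E M : X.Modules}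
    (hE : FlatMod.IsFinLocFreeOfRank 2 E) (hM : ExtPow.IsExtPow 2 E M) {s : Γ(E, ⊤)} (hs : s ≠ 0) :
    ∃ (U : X.affineOpens) (a : Γ(E, U.1)), (U.1 : Set X).Nonempty ∧
      Div86.ExtP.wedge hM U.2 ![res E (le_top : U.1 ≤ ⊤) s, a] ≠ 0 ∧
      (∀ r : Γ(X, U.1), r • res E (le_top : U.1 ≤ ⊤) s = 0 → r = 0) := by
  by_contra hcon
  push Not at hcon
  refine hs (eq_of_locally _ _ fun x _ => ?_)
  obtain ⟨U, hxU, ⟨φ⟩⟩ := hE x
  obtain ⟨b, hb⟩ := Frame.exists_frame φ
  obtain ⟨V, hV, hxV, hVU0⟩ := exists_isAffineOpen_mem_and_subset (x := x) (U := U) hxU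
  have hVU : V ≤ U := hVU0
  refine ⟨V, le_top, hxV, ?_⟩
  rw [map_zero]
  by_contra hne
  have hb' := frame_res hb hVU
  let B := frameBasis hb'
  let t := res E (le_top : V ≤ ⊤) s
  haveI : Nonempty V := ⟨⟨x, hxV⟩⟩
  have hcan : ∀ r : Γ(X, V), r • t = 0 → r = 0 := fun r hr => by
    have h1 : r • B.repr t = 0 := by rw [← map_smul, hr, map_zero]
    obtain ⟨i, hi⟩ : ∃ i, B.repr t i ≠ 0 := by
      by_contra h; push Not at h
      exact hne (B.repr.injective (by rw [map_zero]; exact Finsupp.ext h))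
    exact (mul_eq_zero.1 (DFunLike.congr_fun h1 i)).resolve_right hi
  have hz : ∀ a, Div86.ExtP.wedge hM hV ![t, a] = 0 := fun a => by
    by_contra h
    obtain ⟨r, hr, hr'⟩ := hcon ⟨V, hV⟩ a ⟨x, hxV⟩ h
    exact hr' (hcan r hr)
  have hdet : ∀ a, (frameBasis hb').det ![t, a] = 0 := fun a => by
    rw [← topEquiv_wedge hM hV hb', hz, map_zero]
  have h0 := hdet (B 0)
  have h1 := hdet (B 1)
  rw [Module.Basis.det_apply, Matrix.det_fin_two] at h0 h1
  simp only [Module.Basis.toMatrix_apply, Matrix.cons_val_zero, Matrix.cons_val_one,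
    B, Module.Basis.repr_self, Finsupp.single_apply] at h0 h1
  norm_num at h0 h1
  refine hne (B.repr.injective ?_)
  rw [map_zero]
  ext i
  fin_cases i
  · exact h1
  · exact h0

/-- `O(d)` maps nontrivially to `O` for `d ≤ 0`. -/
theorem exists_hom_structure_ne_zero {d : ℤ} (hd : d ≤ 0) :
    ∃ μ : O k n d ⟶ Coh.structureModule (P k n), μ ≠ 0 := by
  haveI := nontrivial_H0_O (k := k) (n := n) (d := -d) (by omega)
  obtain ⟨t, ht⟩ := exists_ne (0 : Coh.HH (P k n) (O k n (-d)) 0)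
  let t' : Γ(O k n (-d), ⊤) := Sheaf.H.equiv₀ _ isTerminalTop t
  let g := QCoh.homOfTop t'
  have hg : g ≠ 0 := fun h => by
    refine ht ((Sheaf.H.equiv₀ _ isTerminalTop).injective ?_)
    rw [map_zero]
    have h1 : g.app ⊤ (1 : Γ(P k n, ⊤)) = 0 := by rw [h]; rfl
    rw [QCoh.homOfTop_app, one_smul] at h1
    exact (res_self t').symm.trans h1
  obtain ⟨e₀⟩ : Nonempty (O k n d ≅ tw k n (Coh.structureModule (P k n)) d) :=
    ⟨(O_add' (zero_add d)).some.symm ≪≫ twIso O_zero.some d⟩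
  obtain ⟨e₁⟩ : Nonempty (tw k n (O k n (-d)) d ≅ Coh.structureModule (P k n)) :=
    ⟨(O_add' (neg_add_cancel d)).some ≪≫ O_zero.some⟩
  refine ⟨e₀.hom ≫ twMap g d ≫ e₁.hom, fun h => hg (twMap_injective d ?_)⟩
  show twMap g d = twMap 0 d
  rw [twMap_zero, ← cancel_epi e₀.hom, ← cancel_mono e₁.hom, Category.assoc, h]
  simp

/-- A simple rank two bundle has no section in its normalised twist. -/
theorem subsingleton_H0_of_simple (E : (P k n).Modules) (hE : FlatMod.IsFinLocFreeOfRank 2 E)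
    (c k₀ : ℤ) (L : (P k n).Modules) (hL : ExtPow.IsExtPow 2 E L) (eL : L ≅ O k n c)
    (hk₀ : c + 2 * k₀ = 0 ∨ c + 2 * k₀ = -1)
    (hsimple : ∀ φ : E ⟶ E, ∃ c' : k, (SheafOfModules.toSheaf (P k n).ringCatSheaf).map φ =
      Coh.smulAb E (Coh.toGlobal (CohB1.ProjSpace.toSpec n k) c')) :
    Subsingleton (Coh.HH (P k n) (tw k n E k₀) 0) := by
  letI := isIntegral k n
  have hO1 : ∀ d, FlatMod.IsFinLocFreeOfRank 1 (O k n d) := fun d =>
    InvEnd.isFinLocFreeOfRank_one (isInvertible_O d)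
  set E' := tw k n E k₀ with hE'def
  have hE' : FlatMod.IsFinLocFreeOfRank 2 E' := isFinLocFreeOfRank_tensor hE (hO1 k₀)
  refine subsingleton_H0_of_sections _ fun s => ?_
  by_contra hs
  obtain ⟨M, hM⟩ := H44Adj.exists_isExtPow (i := 2) (E := E')
    (QCoh.isQCoh_of_isFinLocFree fun x => let ⟨U, hx, e⟩ := hE' x; ⟨U, 2, hx, e⟩)
  obtain ⟨e₁⟩ := ExtDet90.nonempty_iso_twist hM hL (hO1 k₀)
  let e₂ : CohB1.tensorPow (O k n k₀) 2 ≅ O k n (2 * k₀) :=
    twIso (twIso O_zero.some.symm k₀ ≪≫ (O_add' (zero_add k₀)).some) k₀ ≪≫ (O_add' (by omega)).some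
  let eM : M ≅ O k n (c + 2 * k₀) := e₁ ≪≫ tensorIso eL e₂ ≪≫ (O_add c (2 * k₀)).some
  have hMinv : PicF.IsInvertible (O k n (c + 2 * k₀)) := isInvertible_O _
  obtain ⟨μ, hμ⟩ := exists_hom_structure_ne_zero (k := k) (n := n) (d := c + 2 * k₀) (by omega)
  have hμinj := InvEnd.app_injective_of_ne_zero hMinv InvX.isInvertible_structureModule μ hμ
  obtain ⟨ψ, hψ⟩ := exists_wedge_hom hM s
  obtain ⟨U, a, hUne, hw, hcan⟩ := exists_wedge_ne_zero hE' hM hs
  let σ : Coh.structureModule (P k n) ⟶ E' := QCoh.homOfTop s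
  let φ : E' ⟶ E' := ψ ≫ eM.hom ≫ μ ≫ σ
  have hφne : φ ≠ 0 := fun h => by
    have h0 : φ.app U.1 a = 0 := by rw [h]; rfl
    change σ.app U.1 (μ.app U.1 (eM.hom.app U.1 (ψ.app U.1 a))) = 0 at h0
    rw [QCoh.homOfTop_app] at h0
    have h1 := hμinj U.1 ((hcan _ h0).trans (map_zero _).symm)
    have h2 : ψ.app U.1 a = 0 := by
      apply (ConcreteCategory.bijective_of_isIso (eM.hom.app U.1)).1
      rw [h1, map_zero]
    rw [hψ] at h2
    exact hw h2
  have hφs : φ.app ⊤ s = 0 := by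
    have hψs : ψ.app ⊤ s = 0 := eq_of_locally _ _ fun p _ => by
      obtain ⟨V, hV, hpV, -⟩ := exists_isAffineOpen_mem_and_subset (x := p) (U := ⊤) trivial
      refine ⟨V, le_top, hpV, ?_⟩
      rw [← app_res, map_zero, hψ ⟨V, hV⟩]
      show (Div86.ExtP.chart hM hV).symm (exteriorPower.ιMulti _ 2 _) = 0
      rw [AlternatingMap.map_eq_zero_of_eq _ _ (i := (0 : Fin 2)) (j := 1) rfl (by decide), map_zero]
    show (eM.hom ≫ μ ≫ σ).app ⊤ (ψ.app ⊤ s) = 0
    rw [hψs, map_zero]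
  -- descend to an endomorphism of `E`
  let e := (tw_tw_neg E k₀).some
  obtain ⟨c', hc'⟩ := hsimple (e.inv ≫ twMap φ (-k₀) ≫ e.hom)
  by_cases hc0 : c' = 0
  · have h0 : e.inv ≫ twMap φ (-k₀) ≫ e.hom = 0 := by
      apply (SheafOfModules.toSheaf (P k n).ringCatSheaf).map_injective
      rw [hc', hc0, map_zero, Coh.smulAb_zero, Functor.map_zero]
    refine hφne (twMap_injective (-k₀) ?_)
    show twMap φ _ = twMap 0 _
    rw [twMap_zero]
    simpa using h0
  · have hiso : IsIso ((SheafOfModules.toSheaf (P k n).ringCatSheaf).map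
        (e.inv ≫ twMap φ (-k₀) ≫ e.hom)) := by
      rw [hc']
      refine ⟨Coh.smulAb E (Coh.toGlobal (CohB1.ProjSpace.toSpec n k) c'⁻¹), ?_, ?_⟩
      · rw [← Coh.smulAb_mul, ← map_mul, inv_mul_cancel₀ hc0, map_one, Coh.smulAb_one]
      · rw [← Coh.smulAb_mul, ← map_mul, mul_inv_cancel₀ hc0, map_one, Coh.smulAb_one]
    haveI : IsIso (e.inv ≫ twMap φ (-k₀) ≫ e.hom) := by
      exact Scheme.Modules.Hom.isIso_iff_isIso_app.2 fun V =>
        (NatTrans.isIso_iff_isIso_app _).1 ((sheafToPresheaf _ _).map_isIso ((SheafOfModules.toSheaf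
          (P k n).ringCatSheaf).map (e.inv ≫ twMap φ (-k₀) ≫ e.hom))) (op V)
    haveI : IsIso (twMap φ (-k₀)) := by
      have : twMap φ (-k₀) = e.hom ≫ (e.inv ≫ twMap φ (-k₀) ≫ e.hom) ≫ e.inv := by simp
      rw [this]; infer_instance
    haveI := isEquivalence_twF (k := k) (n := n) (-k₀)
    haveI : IsIso ((twF k n (-k₀)).map (X := E') (Y := E') φ) := ‹IsIso (twMap φ (-k₀))›
    haveI : IsIso φ := isIso_of_reflects_iso φ (twF k n (-k₀))
    exact hs ((ConcreteCategory.bijective_of_isIso (φ.app ⊤)).1 (hφs.trans (map_zero _).symm))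

end Groth.Agent.Pn90
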