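import Groth.Agent.Pn90.Basic
import Groth.Agent.Lib.RegDescent
import Groth.Agent.QCoh.Devissage

/-!
# Extensions of twists split on projective space of dimension at least two
-/

set_option linter.style.haveILetI false
set_option backward.isDefEq.respectTransparency false
set_option backward.isDefEq.respectTransparency.types false
set_option maxHeartbeats 400000

universe u

open CategoryTheory CategoryTheory.Limits AlgebraicGeometry TopologicalSpace Opposite

noncomputable section

namespace Groth.Agent.Pn90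

open Groth.Agent

variable {k : Type u} [Field k] {n : ℕ}

/-- A section lifting a nowhere vanishing one splits a sequence. -/
theorem exists_section_of_H1 {S : ShortComplex (P k n).Modules} (hS : S.ShortExact)
    (e : S.X₃ ≅ Coh.structureModule (P k n)) (h : Subsingleton (Coh.HH (P k n) S.X₁ 1)) :
    ∃ s : S.X₃ ⟶ S.X₂, s ≫ S.g = 𝟙 S.X₃ := by
  letI := isIntegral k n
  obtain ⟨a, ha⟩ := RegDescent.g_app_surjective hS (fun y => @Subsingleton.elim _ h _ _)
    (e.inv.app ⊤ (show Γ(P k n, ⊤) from 1))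
  let f := QCoh.homOfTop a ≫ S.g ≫ e.hom
  have h1 : f.app ⊤ (show Γ(P k n, ⊤) from 1) = (show Γ(P k n, ⊤) from 1) := by
    show e.hom.app ⊤ (S.g.app ⊤ ((QCoh.homOfTop a).app ⊤ (show Γ(P k n, ⊤) from 1))) = _
    rw [QCoh.homOfTop_app, one_smul]
    erw [S.X₂.presheaf.map_id]
    show e.hom.app ⊤ (S.g.app ⊤ a) = _
    rw [ha]
    show (e.inv ≫ e.hom).app ⊤ _ = _
    rw [e.inv_hom_id]
    rfl
  have hf : f ≠ 0 := fun h0 => by
    rw [h0] at h1
    exact zero_ne_one (α := Γ(P k n, ⊤)) h1
  haveI := isIso_end_structure hf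
  refine ⟨e.hom ≫ inv f ≫ QCoh.homOfTop a, ?_⟩
  rw [← cancel_mono e.hom, Category.assoc, Category.assoc, Category.assoc, Category.id_comp]
  show e.hom ≫ inv f ≫ f = e.hom
  rw [IsIso.inv_hom_id, Category.comp_id]

/-- A twisted sequence. -/
abbrev twCx (S : ShortComplex (P k n).Modules) (d : ℤ) : ShortComplex (P k n).Modules :=
  ShortComplex.mk (twMap S.f d) (twMap S.g d) (by rw [← twMap_comp, S.zero, twMap_zero])

theorem shortExact_twCx {S : ShortComplex (P k n).Modules} (hS : S.ShortExact) (d : ℤ) :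
    (twCx S d).ShortExact := by
  haveI := isEquivalence_twF (k := k) (n := n) d
  haveI := additive_twF (k := k) (n := n) d
  let ε : S.map (twF k n d) ≅ twCx S d := Iso.refl _
  exact ShortComplex.shortExact_of_iso ε (hS.map_of_exact (twF k n d))

theorem twMap_surjective {A B : (P k n).Modules} (d : ℤ) :
    Function.Surjective (fun f : A ⟶ B => twMap f d) := by
  haveI := isEquivalence_twF (k := k) (n := n) d
  exact (twF k n d).map_surjective (X := A) (Y := B)

/-- Extensions of `O(b)` by `O(a)` split for `n ≥ 2`. -/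
theorem nonempty_splitting (hn : 2 ≤ n) {a b : ℤ} {S : ShortComplex (P k n).Modules} (hS : S.ShortExact)
    (ea : S.X₁ ≅ O k n a) (eb : S.X₃ ≅ O k n b) : Nonempty S.Splitting := by
  obtain ⟨e₁⟩ := O_add (k := k) (n := n) a (-b)
  obtain ⟨e₂⟩ := O_add' (k := k) (n := n) (show b + -b = 0 by ring)
  obtain ⟨e₀⟩ := O_zero (k := k) (n := n)
  have h1 : Subsingleton (Coh.HH (P k n) (twCx S (-b)).X₁ 1) :=
    QCoh.subsingleton_HH_of_iso (twIso ea (-b) ≪≫ e₁).symm 1
      (S0844.result k n (a + -b) 1 (fun h => by omega) (fun h => by omega))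
  obtain ⟨s, hs⟩ := exists_section_of_H1 (shortExact_twCx hS (-b)) (twIso eb (-b) ≪≫ e₂ ≪≫ e₀) h1
  obtain ⟨s', hs'⟩ := twMap_surjective (-b) s
  refine ⟨ShortComplex.Splitting.ofExactOfSection S hS.exact s' ?_ hS.mono_f⟩
  refine twMap_injective (-b) ?_
  show twMap (s' ≫ S.g) (-b) = twMap (𝟙 S.X₃) (-b)
  rw [twMap_comp, twMap_id, show twMap s' (-b) = s from hs']
  exact hs

end Groth.Agent.Pn90
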